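import Cfsg.Agent.RealPDegree.Basic
import Mathlib.GroupTheory.Solvable
import Mathlib.GroupTheory.Nilpotent
import Cfsg.Agent.Characters.Integrality
import Mathlib.GroupTheory.Index

/-!
# Groups whose real irreducible characters have degree prime to `p`

* `normal_of_sylow`: if the subgroup generated by the `p`-elements is solvable, a Sylow `p`-subgroup
  of a normal subgroup containing all `2`-elements with `p`-power index over them is normal.
* `two_elements_centralize`: a normal subgroup inside the derived group of a Sylow `p`-subgroup,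
  `p` odd, is centralized by every `2`-element.
-/

set_option autoImplicit false
set_option linter.style.haveILetI false
set_option linter.unusedSectionVars false

namespace CfsgLib.RealPDegree

open CfsgLib.Characters CfsgLib.OddOrderChar CfsgLib.CharactersDeep
open scoped ComplexConjugate

universe u

variable {G : Type u} [Group G] [Finite G]

theorem relIndex_dvd_right {H K L : Subgroup G} (hHK : H ≤ K) (hKL : K ≤ L) :
    H.relIndex K ∣ H.relIndex L :=
  Dvd.intro _ (Subgroup.relIndex_mul_relIndex H K L hHK hKL)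

/-- A minimal normal subgroup inside a nontrivial normal subgroup. -/
theorem exists_minimal_normal {S : Subgroup G} [hS : S.Normal] (hne : S ≠ ⊥) :
    ∃ N : Subgroup G, N.Normal ∧ N ≤ S ∧ N ≠ ⊥ ∧
      ∀ M : Subgroup G, M.Normal → M ≤ N → M = ⊥ ∨ M = N := by
  obtain ⟨N, ⟨hN, hNS, hN1⟩, hmin⟩ := exists_minimal_of_wellFoundedLT
    (fun M : Subgroup G => M.Normal ∧ M ≤ S ∧ M ≠ ⊥) ⟨S, hS, le_rfl, hne⟩
  refine ⟨N, hN, hNS, hN1, fun M hM hMN => or_iff_not_imp_left.2 fun h => ?_⟩
  exact le_antisymm hMN (hmin ⟨hM, hMN.trans hNS, h⟩ hMN)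

/-- A solvable minimal normal subgroup is elementary abelian. -/
theorem elementary_of_minimal {N : Subgroup G} [hN : N.Normal] (hne : N ≠ ⊥)
    (hsolv : Group.IsSolvable N)
    (hmin : ∀ M : Subgroup G, M.Normal → M ≤ N → M = ⊥ ∨ M = N) :
    (∀ x ∈ N, ∀ y ∈ N, x * y = y * x) ∧ ∃ q : ℕ, q.Prime ∧ ∀ x ∈ N, x ^ q = 1 := by
  haveI : Nontrivial N := (Subgroup.nontrivial_iff_ne_bot N).2 hne
  have hlt := Group.IsSolvable.commutator_lt_top_of_nontrivial N
  have hcomm : ⁅N, N⁆ = ⊥ := by
    refine (hmin _ inferInstance (Subgroup.commutator_le_left _ _)).resolve_right fun h => ?_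
    refine hlt.ne (Subgroup.map_injective N.subtype_injective ?_)
    rw [commutator_def, Subgroup.map_commutator, ← MonoidHom.range_eq_map, Subgroup.range_subtype]
    exact h
  have hab : ∀ x ∈ N, ∀ y ∈ N, x * y = y * x := fun x hx y hy => by
    rw [← commutatorElement_eq_one_iff_mul_comm, ← Subgroup.mem_bot, ← hcomm]
    exact Subgroup.commutator_mem_commutator hx hy
  obtain ⟨q, hq, hqd⟩ := Nat.exists_prime_and_dvd
    (show Nat.card N ≠ 1 from (Finite.one_lt_card (α := N)).ne')
  haveI : Fact q.Prime := ⟨hq⟩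
  obtain ⟨z, hz⟩ := exists_prime_orderOf_dvd_card' q hqd
  refine ⟨hab, q, hq, ?_⟩
  let M : Subgroup G :=
    { carrier := {x | x ∈ N ∧ x ^ q = 1}
      one_mem' := ⟨N.one_mem, one_pow q⟩
      mul_mem' := fun {x y} hx hy => ⟨N.mul_mem hx.1 hy.1, by
        rw [(show Commute x y from hab x hx.1 y hy.1).mul_pow, hx.2, hy.2, one_mul]⟩
      inv_mem' := fun {x} hx => ⟨N.inv_mem hx.1, by rw [inv_pow, hx.2, inv_one]⟩ }
  haveI : M.Normal := ⟨fun x hx g => ⟨hN.conj_mem x hx.1 g, by
    rw [conj_pow, hx.2, mul_one, mul_inv_cancel]⟩⟩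
  have hMN : M = N := by
    refine (hmin M inferInstance fun x hx => hx.1).resolve_left fun h => ?_
    have hzM : (z : G) ∈ M := ⟨z.2, by
      rw [← Subgroup.coe_pow, ← hz, pow_orderOf_eq_one, OneMemClass.coe_one]⟩
    rw [h, Subgroup.mem_bot, OneMemClass.coe_eq_one] at hzM
    exact hq.ne_one (by rw [← hz, hzM, orderOf_one])
  intro x hx
  rw [← hMN] at hx
  exact hx.2

/-- A `2`-element outside a subgroup has a power outside it whose square is inside. -/
theorem exists_sq_mem {C : Subgroup G} {x : G} {k : ℕ} (hk : orderOf x = 2 ^ k) (hx : x ∉ C) :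
    ∃ g : G, g ∉ C ∧ g * g ∈ C := by
  classical
  have h : ∃ j, x ^ 2 ^ j ∈ C := ⟨k, by rw [← hk, pow_orderOf_eq_one]; exact C.one_mem⟩
  have h0 : Nat.find h ≠ 0 := fun h0 => hx (by
    have := Nat.find_spec h
    rwa [h0, pow_zero, pow_one] at this)
  obtain ⟨j, hj⟩ := Nat.exists_eq_succ_of_ne_zero h0
  refine ⟨x ^ 2 ^ j, Nat.find_min h (by omega), ?_⟩
  have := Nat.find_spec h
  rw [hj] at this
  rwa [← pow_add, ← two_mul, ← pow_succ']

variable (N : Subgroup G) [hN : N.Normal]

/-- A nontrivial linear character inverted by some element. -/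
theorem exists_inverted (hab : ∀ x ∈ N, ∀ y ∈ N, x * y = y * x) {q : ℕ} (hq : q.Prime)
    (hexp : ∀ x ∈ N, x ^ q = 1) (hne : N ≠ ⊥)
    (hg : q ≠ 2 → ∃ g : G, g ∉ Subgroup.centralizer (N : Set G) ∧
      g * g ∈ Subgroup.centralizer (N : Set G)) :
    ∃ (f : N →* ℂˣ) (g : G), f ≠ 1 ∧ ∀ n : N, f (MulAut.conjNormal g n) = (f n)⁻¹ := by
  have hab' : ∀ x y : N, x * y = y * x := fun x y => Subtype.ext (hab x x.2 y y.2)
  have hexp' : ∀ n : N, n ^ q = 1 := fun n =>
    Subtype.ext (by rw [Subgroup.coe_pow, hexp n n.2, OneMemClass.coe_one])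
  by_cases h2 : q = 2
  · subst h2
    obtain ⟨a, ha, ha1⟩ := Subgroup.bot_or_exists_ne_one N |>.resolve_left hne
    obtain ⟨f, hf⟩ := exists_hom_ne_one hab' (a := (⟨a, ha⟩ : N))
      (fun h => ha1 (congrArg Subtype.val h))
    refine ⟨f, 1, fun h => hf (by rw [h]; rfl), fun n => ?_⟩
    rw [map_one, MulAut.one_apply]
    refine eq_inv_of_mul_eq_one_left ?_
    rw [← map_mul, ← pow_two, hexp', map_one]
  obtain ⟨g, hgC, hg2⟩ := hg h2
  obtain ⟨n₀, hn₀⟩ : ∃ n₀ : N, MulAut.conjNormal g n₀ ≠ n₀ := by
    by_contra hcon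
    push Not at hcon
    refine hgC (Subgroup.mem_centralizer_iff.2 fun n hn => ?_)
    have h3 : g * n * g⁻¹ = n := congrArg Subtype.val (hcon ⟨n, hn⟩)
    calc n * g = (g * n * g⁻¹) * g := by rw [h3]
      _ = g * n := by group
  have hgg : ∀ n : N, MulAut.conjNormal g (MulAut.conjNormal g n) = n := fun n => Subtype.ext (by
    have := Subgroup.mem_centralizer_iff.1 hg2 n n.2
    rw [MulAut.conjNormal_apply, MulAut.conjNormal_apply]
    calc g * (g * n * g⁻¹) * g⁻¹ = (g * g * n) * (g * g)⁻¹ := by group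
      _ = (n * (g * g)) * (g * g)⁻¹ := by rw [this]
      _ = n := by group)
  set m : N := MulAut.conjNormal g n₀ * n₀⁻¹ with hm
  have hm1 : m ≠ 1 := fun h => hn₀ (mul_inv_eq_one.1 h)
  obtain ⟨l, hl⟩ := exists_hom_ne_one hab' hm1
  have hginv : MulAut.conjNormal g m = m⁻¹ := by
    rw [hm, map_mul, map_inv, hgg, mul_inv_rev, inv_inv]
  let f : N →* ℂˣ := l * (l.comp (MulAut.conjNormal (H := N) g).toMonoidHom)⁻¹
  have hfn : ∀ n : N, f n = l n * (l (MulAut.conjNormal g n))⁻¹ := fun n => rfl
  refine ⟨f, g, fun h => ?_, fun n => ?_⟩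
  · have h1 : f m = 1 := by rw [h]; rfl
    rw [hfn, hginv, map_inv, inv_inv, ← pow_two] at h1
    have h3 : l m ^ q = 1 := by rw [← map_pow, hexp', map_one]
    have h4 : orderOf (l m) ∣ Nat.gcd 2 q :=
      Nat.dvd_gcd (orderOf_dvd_of_pow_eq_one h1) (orderOf_dvd_of_pow_eq_one h3)
    rw [((Nat.coprime_primes Nat.prime_two hq).2 (Ne.symm h2)).gcd_eq_one, Nat.dvd_one,
      orderOf_eq_one_iff] at h4
    exact hl h4
  · rw [hfn, hfn, hgg, mul_inv_rev, inv_inv, mul_comm]

/-- The linear character of `exists_inverted` is conjugate to its complex conjugate. -/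
theorem conjBy_linChar {f : N →* ℂˣ} {g : G} (h : ∀ n : N, f (MulAut.conjNormal g n) = (f n)⁻¹) :
    conjBy N (fun n : N => (f n : ℂ)) g = fun n => conj ((f n : ℂ)) := by
  funext n
  rw [← character_inv (isCharacter_of_isIrr (isIrr_linChar f)) n]
  show ((f ⟨g * n * g⁻¹, _⟩ : ℂˣ) : ℂ) = ((f n⁻¹ : ℂˣ) : ℂ)
  rw [map_inv, ← h]
  exact congrArg (fun x : N => ((f x : ℂˣ) : ℂ)) (Subtype.ext (by simp [MulAut.conjNormal_apply]))

omit hN in
theorem isPGroup_of_exp {q : ℕ} (hexp : ∀ x ∈ N, x ^ q = 1) : IsPGroup q N := fun x =>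
  ⟨1, by rw [pow_one]; exact Subtype.ext (by rw [Subgroup.coe_pow, hexp x x.2,
    OneMemClass.coe_one])⟩

theorem odd_card_of_exp {q : ℕ} (hq : q.Prime) (h2 : q ≠ 2) (hexp : ∀ x ∈ N, x ^ q = 1) :
    Odd (Nat.card N) := by
  haveI : Fact q.Prime := ⟨hq⟩
  obtain ⟨k, hk⟩ := IsPGroup.iff_card.1 (isPGroup_of_exp N hexp)
  rw [hk]
  exact (hq.odd_of_ne_two h2).pow

/-- The main induction. -/
theorem normal_aux (p : ℕ) [hp : Fact p.Prime] : ∀ (b : ℕ) (G : Type u) [Group G] [Finite G],
    Nat.card G ≤ b → Group.IsSolvable (pGen p G) → RealPrime p G →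
    ∀ U : Subgroup G, U.Normal → pGen 2 G ≤ U → (∃ a : ℕ, (pGen 2 G).relIndex U = p ^ a) →
    ∀ P : Subgroup G, P ≤ U → IsPGroup p P → ¬ p ∣ P.relIndex U → P.Normal := by
  intro b
  induction b with
  | zero => intro G _ _ hb; exact absurd hb (Nat.not_le.2 Nat.card_pos)
  | succ b ih =>
    intro G _ _ hb hsolv hreal U hU hKU ⟨a, ha⟩ P hPU hP hPidx
    haveI : Fact (Nat.Prime 2) := ⟨Nat.prime_two⟩
    by_cases hP1 : P = ⊥
    · rw [hP1]; infer_instance
    haveI : (pGen p G ⊓ U).Normal := inferInstance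
    obtain ⟨N, hN, hNS, hN1, hmin⟩ := exists_minimal_normal
      (S := pGen p G ⊓ U) fun h => hP1 (le_bot_iff.1 (h ▸ le_inf (le_pGen hP) hPU))
    have hNU : N ≤ U := hNS.trans inf_le_right
    haveI := hsolv
    have hsolvN : Group.IsSolvable N :=
      Group.isSolvable_of_isSolvable_injective
        (Subgroup.inclusion_injective (hNS.trans (inf_le_left : pGen p G ⊓ U ≤ _)))
    obtain ⟨hab, q, hq, hexp⟩ := elementary_of_minimal hN1 hsolvN hmin
    -- the quotient
    let π := QuotientGroup.mk' N
    have hπ : Function.Surjective π := QuotientGroup.mk'_surjective N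
    have hbar : (P.map π).Normal := by
      haveI : (U.map π).Normal := hU.map π hπ
      refine ih (G ⧸ N) ?_ ?_ (hreal.map hπ) (U.map π) inferInstance ?_ ?_ (P.map π)
        (Subgroup.map_mono hPU) (hP.map π) ?_
      · have h1 : 1 < Nat.card N := by
          haveI : Nontrivial N := (Subgroup.nontrivial_iff_ne_bot N).2 hN1
          exact Finite.one_lt_card
        have h2 := Subgroup.card_eq_card_quotient_mul_card_subgroup N
        have h3 : 0 < Nat.card (G ⧸ N) := Nat.card_pos
        nlinarith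
      · rw [← map_pGen π hπ]
        exact Group.isSolvable_of_surjective (π.subgroupMap_surjective (pGen p G))
      · rw [← map_pGen π hπ]; exact Subgroup.map_mono hKU
      · have h : (pGen 2 (G ⧸ N)).relIndex (U.map π) ∣ p ^ a := by
          rw [← ha, ← map_pGen π hπ, Subgroup.relIndex_map_map, QuotientGroup.ker_mk',
            sup_eq_left.2 hNU]
          exact Subgroup.relIndex_dvd_of_le_left U le_sup_left
        obtain ⟨i, -, hi⟩ := (Nat.dvd_prime_pow hp.1).1 h
        exact ⟨i, hi⟩
      · intro h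
        apply hPidx
        rw [Subgroup.relIndex_map_map, QuotientGroup.ker_mk', sup_eq_left.2 hNU] at h
        exact h.trans (Subgroup.relIndex_dvd_of_le_left U le_sup_left)
    have hW : (P ⊔ N).Normal := by
      have := hbar.comap π
      rwa [Subgroup.comap_map_eq, QuotientGroup.ker_mk'] at this
    by_cases hqp : q = p
    · have hNP : N ≤ P := by
        have hsup : IsPGroup p (P ⊔ N : Subgroup G) :=
          hP.to_sup_of_normal_right (hqp ▸ isPGroup_of_exp N hexp)
        obtain ⟨i, hi⟩ := IsPGroup.iff_card.1 hsup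
        have h1 : P.relIndex (P ⊔ N) ∣ p ^ i := hi ▸ Subgroup.relIndex_dvd_card _ _
        obtain ⟨j, -, hj⟩ := (Nat.dvd_prime_pow hp.1).1 h1
        rcases Nat.eq_zero_or_pos j with rfl | hj0
        · exact le_sup_right.trans (Subgroup.relIndex_eq_one.1 (by rw [hj, pow_zero]))
        · refine absurd ?_ hPidx
          refine dvd_trans ?_ (relIndex_dvd_right (le_sup_left : P ≤ P ⊔ N)
            (sup_le hPU hNU))
          rw [hj]
          exact dvd_pow_self p hj0.ne'
      rwa [sup_eq_left.2 hNP] at hW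
    -- Frattini argument
    by_contra hPn
    haveI := hW
    set H := Subgroup.normalizer (P : Set G) with hH
    have hHN : H ⊔ N = ⊤ := by
      have hidx : ¬ p ∣ (P.subgroupOf (P ⊔ N)).index := fun h =>
        hPidx (h.trans (by
          rw [← Subgroup.relIndex]
          exact relIndex_dvd_right le_sup_left (sup_le hPU hNU)))
      let P₀ : Sylow p (P ⊔ N : Subgroup G) :=
        (hP.comap_of_injective (P ⊔ N).subtype Subtype.coe_injective).toSylow hidx
      have h := Sylow.normalizer_sup_eq_top P₀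
      have hmap : (P₀ : Subgroup (P ⊔ N : Subgroup G)).map (P ⊔ N).subtype = P :=
        Subgroup.map_subgroupOf_eq_of_le le_sup_left
      rw [hmap, sup_comm P N, ← sup_assoc] at h
      rw [sup_comm (H ⊔ N)] at h
      rwa [sup_eq_right.2 ((Subgroup.le_normalizer).trans le_sup_left)] at h
    have hCab : N ≤ Subgroup.centralizer (N : Set G) := fun x hx =>
      Subgroup.mem_centralizer_iff.2 fun y hy => hab y hy x hx
    have hHne : H ≠ ⊤ := fun h => hPn (Subgroup.normalizer_eq_top_iff.1 h)
    have hD : N ⊓ H = ⊥ := by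
      refine ((hmin _ ?_ inf_le_left).resolve_right fun h => ?_)
      · rw [← Subgroup.normalizer_eq_top_iff, eq_top_iff, ← hHN, sup_le_iff]
        constructor
        · intro h hh
          rw [Subgroup.mem_normalizer_iff]
          intro x
          simp only [Subgroup.mem_inf]
          constructor
          · rintro ⟨hx1, hx2⟩
            exact ⟨hN.conj_mem x hx1 h, H.mul_mem (H.mul_mem hh hx2) (H.inv_mem hh)⟩
          · rintro ⟨hx1, hx2⟩
            have e : x = h⁻¹ * (h * x * h⁻¹) * h⁻¹⁻¹ := by group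
            rw [e]
            exact ⟨hN.conj_mem _ hx1 h⁻¹, H.mul_mem (H.mul_mem (H.inv_mem hh) hx2)
              (by rw [inv_inv]; exact hh)⟩
        · exact le_trans (hCab.trans (Subgroup.centralizer_le (fun _ hx => hx.1)))
            (Subgroup.centralizer_le_normalizer _)
      · rw [inf_eq_left] at h
        exact hHne (by rw [← hHN, sup_eq_left.2 h])
    have hcard : Nat.card G = 1 * (Nat.card H * Nat.card N) := by
      have hc : Subgroup.IsComplement' H N := Subgroup.isComplement'_of_disjoint_and_mul_eq_univ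
        (disjoint_iff.2 (by rw [inf_comm]; exact hD))
        (by rw [← Subgroup.mul_normal, hHN, Subgroup.coe_top])
      rw [one_mul, hc.card_mul]
    -- no nontrivial linear character is fixed by `P`
    have hnofix : ∀ f : N →* ℂˣ,
        (∀ x ∈ P, ∀ n : N, f (MulAut.conjNormal x n) = f n) → f = 1 := by
      intro f hf
      have hDn : (⁅N, P⁆).Normal := by
        rw [← Subgroup.normalizer_eq_top_iff, eq_top_iff, ← hHN, sup_le_iff]
        constructor
        · intro h hh
          have e1 : N.map (MulAut.conj h : G →* G) = N :=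
            Subgroup.Normal.map_conj_eq N h
          have e2 : P.map (MulAut.conj h : G →* G) = P :=
            Subgroup.mem_normalizer_iff_map_conj_eq.1 hh
          rw [Subgroup.mem_normalizer_iff_map_conj_eq, Subgroup.map_commutator, e1, e2]
        · exact le_trans (hCab.trans (Subgroup.centralizer_le (Subgroup.commutator_le_left N P)))
            (Subgroup.centralizer_le_normalizer _)
      have hle : ⁅N, P⁆ ≤ f.ker.map N.subtype := by
        rw [Subgroup.commutator_le]
        intro n hn x hx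
        refine ⟨⟨n, hn⟩ * (MulAut.conjNormal x ⟨n, hn⟩)⁻¹, ?_, ?_⟩
        · rw [SetLike.mem_coe, MonoidHom.mem_ker, map_mul, map_inv, hf x hx, mul_inv_cancel]
        · simp [MulAut.conjNormal_apply, commutatorElement_def, mul_assoc]
      rcases hmin _ hDn (Subgroup.commutator_le_left _ _) with h | h
      · rw [Subgroup.commutator_eq_bot_iff_le_centralizer] at h
        refine absurd ?_ hHne
        rw [← hHN, sup_eq_left.2 (h.trans (Subgroup.centralizer_le_normalizer _))]
      · ext n
        rw [h] at hle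
        obtain ⟨m, hm, hmn⟩ := hle n.2
        rw [Subtype.ext hmn] at hm
        simpa using congrArg Units.val (MonoidHom.mem_ker.1 hm)
    have hg : q ≠ 2 → ∃ g : G, g ∉ Subgroup.centralizer (N : Set G) ∧
        g * g ∈ Subgroup.centralizer (N : Set G) := by
      intro h2
      by_contra hcon
      push Not at hcon
      have hKC : ∀ x : G, (∃ k : ℕ, orderOf x = 2 ^ k) → x ∈ Subgroup.centralizer (N : Set G) := by
        rintro x ⟨k, hk⟩
        by_contra hx
        obtain ⟨g, hgC, hg2⟩ := exists_sq_mem hk hx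
        exact hcon g hgC hg2
      have hKH : pGen 2 G ≤ H := by
        rw [Subgroup.closure_le]
        rintro x ⟨k, hk⟩
        obtain ⟨h, hh, n, hn, rfl⟩ : ∃ h ∈ H, ∃ n ∈ N, h * n = x := by
          have : x ∈ ((H ⊔ N : Subgroup G) : Set G) := by rw [hHN]; trivial
          rw [Subgroup.mul_normal] at this
          exact this
        have hc : Commute h n := by
          have := Subgroup.mem_centralizer_iff.1 (hKC _ ⟨k, hk⟩) n hn
          exact mul_right_cancel (this.symm.trans (mul_assoc n h n).symm)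
        have h1 : (h * n) ^ 2 ^ k = 1 := by rw [← hk, pow_orderOf_eq_one]
        rw [hc.mul_pow] at h1
        have h3 : n ^ 2 ^ k ∈ N ⊓ H := ⟨N.pow_mem hn _, by
          rw [eq_inv_of_mul_eq_one_right h1]; exact H.inv_mem (H.pow_mem hh _)⟩
        rw [hD, Subgroup.mem_bot] at h3
        have h4 : orderOf n ∣ Nat.gcd (2 ^ k) q :=
          Nat.dvd_gcd (orderOf_dvd_of_pow_eq_one h3) (orderOf_dvd_of_pow_eq_one (hexp n hn))
        rw [(Nat.Coprime.pow_left k ((Nat.coprime_primes Nat.prime_two hq).2
          (Ne.symm h2))).gcd_eq_one, Nat.dvd_one, orderOf_eq_one_iff] at h4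
        rw [h4, mul_one]
        exact hh
      refine hN1 (le_bot_iff.1 (hD ▸ le_inf le_rfl ?_))
      intro n hn
      apply hKH
      have hnU : (⟨n, hNU hn⟩ : U) ∈ (pGen 2 G).subgroupOf U := by
        haveI : ((pGen 2 G).subgroupOf U).Normal := Subgroup.normal_subgroupOf
        rw [← QuotientGroup.eq_one_iff, ← orderOf_eq_one_iff]
        refine Nat.eq_one_of_dvd_coprimes (Nat.Coprime.pow_right a
          ((Nat.coprime_primes hq hp.1).2 hqp)) ?_ ?_
        · exact (orderOf_map_dvd (QuotientGroup.mk' _) _).trans (orderOf_dvd_of_pow_eq_one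
            (Subtype.ext (by rw [Subgroup.coe_pow]; exact hexp n hn)))
        · rw [← ha]; exact orderOf_dvd_natCard _
      exact hnU
    obtain ⟨f, g, hf1, hfg⟩ := exists_inverted N hab hq hexp hN1 hg
    letI : Fintype N := Fintype.ofFinite N
    obtain ⟨χ, hχr, hχ⟩ := exists_real_over N (isIrr_linChar f) (d := 1) (by simp) odd_one
      (conjBy_linChar N hfg) H (fun x hx hx' => by
        rw [← Subgroup.mem_bot, ← hD]; exact ⟨hx, hx'⟩) odd_one hcard
    obtain ⟨g', hg'⟩ := exists_conj_fixed N χ.2 (hreal χ hχr) (isIrr_linChar f) hχ hP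
    refine hf1 ?_
    have h := hnofix (f.comp (MulAut.conjNormal (H := N) g').toMonoidHom) fun x hx n => by
      have := congrFun (hg' x hx) n
      simp only [conjBy_apply] at this
      refine Units.ext (Eq.trans ?_ (this.trans ?_))
      · exact congrArg (fun y : N => ((f y : ℂˣ) : ℂ))
          (Subtype.ext (by simp [MulAut.conjNormal_apply]))
      · exact congrArg (fun y : N => ((f y : ℂˣ) : ℂ))
          (Subtype.ext (by simp [MulAut.conjNormal_apply]))
    ext n
    have := DFunLike.congr_fun h ((MulAut.conjNormal (H := N) g').symm n)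
    simpa using congrArg Units.val this

/-- A Sylow `p`-subgroup of such a normal subgroup is normal in the whole group. -/
theorem normal_of_sylow {p : ℕ} [Fact p.Prime] (hsolv : Group.IsSolvable (pGen p G))
    (hreal : RealPrime p G) {U : Subgroup G} (hU : U.Normal) (hKU : pGen 2 G ≤ U)
    (hidx : ∃ a : ℕ, (pGen 2 G).relIndex U = p ^ a) (Q : Sylow p U) :
    (Q : Subgroup U).Normal := by
  have h := normal_aux p (Nat.card G) G le_rfl hsolv hreal U hU hKU hidx
    ((Q : Subgroup U).map U.subtype) (Subgroup.map_subtype_le _) (Q.2.map _) (by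
      rw [Subgroup.relIndex, Subgroup.subgroupOf,
        Subgroup.comap_map_eq_self_of_injective Subtype.coe_injective]
      exact Q.not_dvd_index)
  have := h.comap U.subtype
  rwa [Subgroup.comap_map_eq_self_of_injective Subtype.coe_injective] at this

/-- The induction for `two_elements_centralize`. -/
theorem centralize_aux (p : ℕ) [hp : Fact p.Prime] (hp2 : p ≠ 2) :
    ∀ (b : ℕ) (G : Type u) [Group G] [Finite G], Nat.card G ≤ b → RealPrime p G →
    ∀ P : Subgroup G, IsPGroup p P → ∀ M : Subgroup G, M.Normal → M ≤ ⁅P, P⁆ →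
    ∀ x : G, (∃ k : ℕ, orderOf x = 2 ^ k) → ∀ m ∈ M, x * m = m * x := by
  intro b
  induction b with
  | zero => intro G _ _ hb; exact absurd hb (Nat.not_le.2 Nat.card_pos)
  | succ b ih =>
    intro G _ _ hb hreal P hP M hM hMP x hx m hm
    by_cases hM1 : M = ⊥
    · rw [hM1, Subgroup.mem_bot] at hm
      rw [hm, mul_one, one_mul]
    haveI := hM
    obtain ⟨N, hN, hNM, hN1, hmin⟩ := exists_minimal_normal (S := M) hM1
    have hMP' : M ≤ P := hMP.trans (Subgroup.commutator_le_self P)
    have hNp : IsPGroup p N := hP.to_le (hNM.trans hMP')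
    haveI : Group.IsNilpotent N := hNp.isNilpotent
    obtain ⟨hab, q, hq, hexp⟩ := elementary_of_minimal hN1 inferInstance hmin
    have hqp : q = p := by
      haveI : Nontrivial N := (Subgroup.nontrivial_iff_ne_bot N).2 hN1
      obtain ⟨n, hn⟩ := exists_ne (1 : N)
      obtain ⟨i, hi⟩ := IsPGroup.iff_orderOf.1 hNp n
      have h1 : orderOf n ∣ q := orderOf_dvd_of_pow_eq_one
        (Subtype.ext (by rw [Subgroup.coe_pow, hexp n n.2, OneMemClass.coe_one]))
      rcases (Nat.dvd_prime hq).1 h1 with h | h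
      · exact absurd (orderOf_eq_one_iff.1 h) hn
      · exact (Nat.prime_eq_prime_of_dvd_pow hq hp.1 (by rw [← hi, h]))
    subst hqp
    -- every `2`-element centralises `N`
    have hcN : ∀ y : G, (∃ k : ℕ, orderOf y = 2 ^ k) →
        y ∈ Subgroup.centralizer (N : Set G) := by
      rintro y ⟨k, hk⟩
      by_contra hy
      obtain ⟨g₀, hg₀, hg₀'⟩ := exists_sq_mem hk hy
      obtain ⟨f, g, hf1, hfg⟩ := exists_inverted N hab hq hexp hN1 fun _ => ⟨g₀, hg₀, hg₀'⟩
      haveI : Fact (Nat.Prime 2) := ⟨Nat.prime_two⟩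
      obtain ⟨R⟩ : Nonempty (Sylow 2 G) := Sylow.nonempty
      letI : Fintype N := Fintype.ofFinite N
      have hdisj : ∀ z ∈ N, z ∈ (R : Subgroup G) → z = 1 := fun z hz hz' => by
        obtain ⟨i, hi⟩ := IsPGroup.iff_orderOf.1 R.2 ⟨z, hz'⟩
        rw [Subgroup.orderOf_mk] at hi
        have h4 := orderOf_dvd_of_pow_eq_one (hexp z hz)
        rw [hi] at h4
        rw [← orderOf_eq_one_iff, hi]
        exact Nat.eq_one_of_dvd_coprimes (Nat.Coprime.pow_left i
          ((Nat.coprime_primes Nat.prime_two hq).2 (Ne.symm hp2))) dvd_rfl h4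
      obtain ⟨i, hi⟩ := IsPGroup.iff_card.1 R.2
      obtain ⟨k', hk'⟩ : Nat.card N ∣ (R : Subgroup G).index := by
        refine Nat.Coprime.dvd_of_dvd_mul_left ?_
          (show Nat.card N ∣ Nat.card (R : Subgroup G) * (R : Subgroup G).index by
            rw [Subgroup.card_mul_index]; exact N.card_subgroup_dvd_card)
        rw [hi]
        exact Nat.Coprime.pow_right i
          (Nat.coprime_two_right.2 (odd_card_of_exp N hq hp2 hexp))
      have hcard : Nat.card G = k' * (Nat.card (R : Subgroup G) * Nat.card N) := by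
        rw [← Subgroup.card_mul_index (R : Subgroup G), hk']
        ring
      have hk'odd : Odd k' := by
        refine Nat.Odd.of_mul_right (m := Nat.card N) (hk' ▸ ?_)
        rw [← Nat.not_even_iff_odd, even_iff_two_dvd]
        exact R.not_dvd_index
      obtain ⟨χ, hχr, hχ⟩ := exists_real_over N (isIrr_linChar f) (d := 1) (by simp) odd_one
        (conjBy_linChar N hfg) R hdisj hk'odd hcard
      letI : Fintype G := Fintype.ofFinite G
      -- a linear constituent of the restriction to `P`
      letI : Fintype P := Fintype.ofFinite P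
      obtain ⟨c, hc⟩ := exists_nat_coeff (isCharacter_restrict P (isCharacter_of_isIrr χ.2))
      have hdegψ : ∀ ψ : Cfsg.IrrCharacter P, ∃ j : ℕ, (ψ : P → ℂ) 1 = ((q ^ j : ℕ) : ℂ) := by
        intro ψ
        obtain ⟨l, ρ, hρ, hρψ⟩ := ψ.2
        obtain ⟨i', hi'⟩ := IsPGroup.iff_card.1 hP
        obtain ⟨j, -, hj⟩ := (Nat.dvd_prime_pow hq).1 (hi' ▸ finrank_dvd_card ρ)
        exact ⟨j, by rw [← hρψ, Representation.char_one, hj]⟩
      choose j hj using hdegψ
      have hsum : (χ : G → ℂ) 1 = ((∑ ψ, c ψ * q ^ j ψ : ℕ) : ℂ) := by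
        rw [show (χ : G → ℂ) 1 = (fun n : P => (χ : G → ℂ) n) 1 from rfl, hc, Finset.sum_apply]
        push_cast
        exact Finset.sum_congr rfl fun ψ _ => by
          rw [Pi.smul_apply, smul_eq_mul, hj, Nat.cast_pow]
      obtain ⟨ψ, -, hψ⟩ : ∃ ψ ∈ Finset.univ, ¬ q ∣ c ψ * q ^ j ψ := by
        by_contra hall
        push Not at hall
        refine hreal χ hχr ?_
        rw [Cfsg.charDegree, hsum, Complex.natCast_re, Nat.floor_natCast]
        exact Finset.dvd_sum hall
      have hj0 : j ψ = 0 := by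
        by_contra h
        exact hψ ((dvd_pow_self q h).mul_left _)
      have hc0 : c ψ ≠ 0 := fun h => hψ (by rw [h, zero_mul]; exact dvd_zero q)
      obtain ⟨l, hl⟩ := exists_hom_of_degree_one (isCharacter_of_isIrr ψ.2)
        (by rw [hj, hj0, pow_zero, Nat.cast_one])
      -- it is trivial on `N`
      have hNP : N ≤ P := hNM.trans hMP'
      have hker : ∀ n : N, l ⟨n, hNP n.2⟩ = 1 := fun n => by
        have h1 : (n : G) ∈ (commutator P).map P.subtype := by
          rw [commutator_def, Subgroup.map_commutator, ← MonoidHom.range_eq_map,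
            Subgroup.range_subtype]
          exact hMP (hNM n.2)
        obtain ⟨z, hz, hzn⟩ := h1
        have h2 : z = ⟨n, hNP n.2⟩ := Subtype.ext hzn
        rw [← h2]
        exact MonoidHom.mem_ker.1 (Abelianization.commutator_subset_ker l hz)
      have h1 : Cfsg.classInner (fun n : N => (χ : G → ℂ) n) (fun _ => (1 : ℂ)) ≠ 0 := by
        have hres : (fun n : N => (χ : G → ℂ) n) = ∑ φ : Cfsg.IrrCharacter P,
            (c φ : ℂ) • (fun n : N => (φ : P → ℂ) ⟨n, hNP n.2⟩) := by
          funext n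
          have := congrFun hc ⟨n, hNP n.2⟩
          rw [this]
          simp [Finset.sum_apply]
        choose e he using fun φ : Cfsg.IrrCharacter P => classInner_character_irr
          (isCharacter_comp (Subgroup.inclusion hNP) (isCharacter_of_isIrr φ.2)) isIrr_one
        rw [hres, classInner_sum_left]
        have heq : ∀ φ : Cfsg.IrrCharacter P, Cfsg.classInner
            ((c φ : ℂ) • fun n : N => (φ : P → ℂ) ⟨n, hNP n.2⟩) (fun _ => (1 : ℂ)) =
            ((c φ * e φ : ℕ) : ℂ) := fun φ => by
          rw [classInner_smul_left, Nat.cast_mul, ← he]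
          rfl
        rw [Finset.sum_congr rfl fun φ _ => heq φ, ← Nat.cast_sum, Nat.cast_ne_zero]
        intro h0
        have h5 := Finset.sum_eq_zero_iff.1 h0 ψ (Finset.mem_univ _)
        rw [Nat.mul_eq_zero, or_iff_right hc0] at h5
        have h6 := he ψ
        rw [h5, Nat.cast_zero] at h6
        have hfun : (fun n : N => (ψ : P → ℂ) (Subgroup.inclusion hNP n)) = fun _ => (1 : ℂ) := by
          funext n
          rw [hl]
          show ((l ⟨n, _⟩ : ℂˣ) : ℂ) = 1
          rw [hker, Units.val_one]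
        exact one_ne_zero ((classInner_isIrr_self isIrr_one).symm.trans
          ((congrArg (fun F => Cfsg.classInner F fun _ : N => (1 : ℂ)) hfun).symm.trans h6))
      obtain ⟨g', hg'⟩ := Clifford.exists_conjBy_of_constituents N χ.2 (isIrr_linChar f)
        isIrr_one hχ h1
      refine hf1 ?_
      ext n
      have := congrFun hg' ((MulAut.conjNormal (H := N) g').symm n)
      simp only [conjBy_apply] at this
      refine Eq.trans ?_ this.symm
      exact congrArg (fun y : N => ((f y : ℂˣ) : ℂ))
        (Subtype.ext (by simp [MulAut.conjNormal_apply, MulAut.conjNormal_symm_apply, mul_assoc]))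
    obtain ⟨k, hk⟩ := hx
    -- modulo `N`
    let π := QuotientGroup.mk' N
    have hπ : Function.Surjective π := QuotientGroup.mk'_surjective N
    have hcom : π x * π m = π m * π x := by
      refine ih (G ⧸ N) ?_ (hreal.map hπ) (P.map π) (hP.map π) (M.map π) (hM.map π hπ)
        (by rw [← Subgroup.map_commutator]; exact Subgroup.map_mono hMP) (π x) ?_ (π m)
        (Subgroup.mem_map_of_mem π hm)
      · have h1 : 1 < Nat.card N := by
          haveI : Nontrivial N := (Subgroup.nontrivial_iff_ne_bot N).2 hN1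
          exact Finite.one_lt_card
        have h2 := Subgroup.card_eq_card_quotient_mul_card_subgroup N
        have h3 : 0 < Nat.card (G ⧸ N) := Nat.card_pos
        nlinarith
      · obtain ⟨i, -, hi⟩ := (Nat.dvd_prime_pow Nat.prime_two).1 (hk ▸ orderOf_map_dvd π x)
        exact ⟨i, hi⟩
    set n := x * m * x⁻¹ * m⁻¹ with hn
    have hnN : n ∈ N := by
      rw [← QuotientGroup.eq_one_iff]
      show π n = 1
      simp only [hn, map_mul, map_inv, hcom, mul_inv_cancel_right, mul_inv_cancel]
    have hxn : x * n * x⁻¹ = n := by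
      rw [← Subgroup.mem_centralizer_iff.1 (hcN x ⟨k, hk⟩) n hnN]; group
    have hpow : ∀ i : ℕ, x ^ i * m * (x ^ i)⁻¹ = n ^ i * m := by
      intro i
      induction i with
      | zero => simp
      | succ i ihi =>
        calc x ^ (i + 1) * m * (x ^ (i + 1))⁻¹ = x * (x ^ i * m * (x ^ i)⁻¹) * x⁻¹ := by
              rw [pow_succ']; group
          _ = (x * n * x⁻¹) ^ i * (x * m * x⁻¹) := by rw [ihi, conj_pow]; group
          _ = n ^ (i + 1) * m := by rw [hxn, pow_succ, hn]; group
    have hn1 : n ^ 2 ^ k = 1 := by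
      have h := hpow (2 ^ k)
      rw [← hk, pow_orderOf_eq_one, one_mul, inv_one, mul_one, hk] at h
      exact mul_eq_right.1 h.symm
    have hn0 : n = 1 := orderOf_eq_one_iff.1 (Nat.eq_one_of_dvd_coprimes
      (Nat.Coprime.pow_left k ((Nat.coprime_primes Nat.prime_two hq).2 (Ne.symm hp2)))
      (orderOf_dvd_of_pow_eq_one hn1) (orderOf_dvd_of_pow_eq_one (hexp n hnN)))
    rw [hn, mul_inv_eq_one] at hn0
    exact mul_inv_eq_iff_eq_mul.1 hn0

/-- For odd `p`, the `2`-elements centralise normal subgroups inside `P'`. -/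
theorem pGen_two_le_centralizer {p : ℕ} [Fact p.Prime] (hp2 : p ≠ 2) (hreal : RealPrime p G)
    {P : Subgroup G} (hP : IsPGroup p P) {M : Subgroup G} (hM : M.Normal) (hMP : M ≤ ⁅P, P⁆) :
    pGen 2 G ≤ Subgroup.centralizer (M : Set G) := by
  rw [Subgroup.closure_le]
  intro x hx
  exact Subgroup.mem_centralizer_iff.2 fun m hm =>
    (centralize_aux p hp2 (Nat.card G) G le_rfl hreal P hP M hM hMP x hx m hm).symm

end CfsgLib.RealPDegree
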