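import Cfsg.Agent.CharactersDeep.Clifford
import Cfsg.Agent.Characters.Linear
import Cfsg.Agent.Characters.FixedPoints
import Cfsg.Agent.BlocksCharsC.RealConstituents
import Mathlib.GroupTheory.Sylow

/-!
# Tools for real characters of degree prime to `p`

* `pGen p G`, the subgroup generated by the `p`-elements;
* `exists_real_over`: a real character above an irreducible character of odd degree of a normal
  subgroup which is conjugate to its complex conjugate, given a nearly complementary subgroup;
* `exists_conj_fixed`: a character of degree prime to `p` forces every `p`-subgroup to fix a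
  conjugate of each constituent.
-/

set_option autoImplicit false
set_option linter.style.haveILetI false
set_option linter.unusedSectionVars false

namespace CfsgLib.RealPDegree

open scoped Pointwise
open CfsgLib.Characters CfsgLib.OddOrderChar CfsgLib.CharactersDeep
open scoped ComplexConjugate

universe u v

variable {G : Type u} [Group G] [Finite G]

/-- The subgroup generated by the `p`-elements. -/
abbrev pGen (p : ℕ) (G : Type u) [Group G] : Subgroup G :=
  Subgroup.closure {g : G | ∃ k : ℕ, orderOf g = p ^ k}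

instance pGen_normal (p : ℕ) : (pGen p G).Normal := by
  refine ⟨fun n hn g => ?_⟩
  have h : pGen p G ≤ (pGen p G).comap (MulAut.conj g).toMonoidHom := by
    rw [Subgroup.closure_le]
    rintro x ⟨k, hk⟩
    exact Subgroup.subset_closure ⟨k, by
      show orderOf (MulAut.conj g x) = _
      rw [(MulAut.conj g).orderOf_eq, hk]⟩
  exact h hn

theorem le_pGen {p : ℕ} [Fact p.Prime] {P : Subgroup G} (hP : IsPGroup p P) : P ≤ pGen p G := by
  intro x hx
  obtain ⟨k, hk⟩ := IsPGroup.iff_orderOf.1 hP ⟨x, hx⟩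
  exact Subgroup.subset_closure ⟨k, by rw [← hk, Subgroup.orderOf_mk]⟩

theorem not_dvd_index_pGen (p : ℕ) [Fact p.Prime] : ¬ p ∣ (pGen p G).index := by
  obtain ⟨P⟩ : Nonempty (Sylow p G) := Sylow.nonempty
  exact fun h => P.not_dvd_index (h.trans (Subgroup.index_dvd_of_le (le_pGen P.2)))

/-- A normal subgroup of index prime to `p` contains all `p`-elements. -/
theorem pGen_le {p : ℕ} [hp : Fact p.Prime] {N : Subgroup G} [N.Normal] (hN : ¬ p ∣ N.index) :
    pGen p G ≤ N := by
  rw [Subgroup.closure_le]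
  rintro x ⟨k, hk⟩
  rw [SetLike.mem_coe, ← QuotientGroup.eq_one_iff, ← orderOf_eq_one_iff]
  refine Nat.eq_one_of_dvd_coprimes (Nat.Coprime.pow_left k
    ((Nat.Prime.coprime_iff_not_dvd hp.1).2 hN)) ?_ ?_
  · rw [← hk]; exact orderOf_map_dvd (QuotientGroup.mk' N) x
  · rw [Subgroup.index]; exact orderOf_dvd_natCard _

theorem map_pGen {p : ℕ} [Fact p.Prime] {G' : Type v} [Group G'] [Finite G'] (f : G →* G')
    (hf : Function.Surjective f) : (pGen p G).map f = pGen p G' := by
  refine le_antisymm ?_ ?_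
  · rw [Subgroup.map_le_iff_le_comap, Subgroup.closure_le]
    rintro x ⟨k, hk⟩
    obtain ⟨i, -, hi⟩ := (Nat.dvd_prime_pow (Fact.out (p := p.Prime))).1
      (hk ▸ orderOf_map_dvd f x)
    exact Subgroup.subset_closure ⟨i, hi⟩
  · haveI := (pGen_normal (G := G) p).map f hf
    exact pGen_le fun h => not_dvd_index_pGen (G := G) p
      (h.trans (Subgroup.index_map_dvd _ hf))

/-- Every irreducible real character has degree prime to `p`. -/
def RealPrime (p : ℕ) (G : Type u) [Group G] : Prop :=
  ∀ χ : Cfsg.IrrCharacter G, (∀ g : G, ((χ : G → ℂ) g).im = 0) →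
    ¬ p ∣ Cfsg.charDegree (χ : G → ℂ)

theorem RealPrime.map {p : ℕ} {G' : Type v} [Group G'] [Finite G'] {f : G →* G'}
    (hf : Function.Surjective f) (h : RealPrime p G) : RealPrime p G' := fun χ hχ => by
  have := h ⟨fun g => (χ : G' → ℂ) (f g), isIrr_comp f hf χ.2⟩ fun g => hχ _
  simpa [Cfsg.charDegree] using this

variable (N : Subgroup G) [hN : N.Normal]

/-- A real character above a character of odd degree that is conjugate to its complex conjugate,
given a subgroup meeting `N` trivially with product of odd index. -/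
theorem exists_real_over {θ : N → ℂ} (hθ : Cfsg.IsIrrCharacter N θ) {d : ℕ} (hd : θ 1 = d)
    (hd_odd : Odd d) {g : G} (hg : conjBy N θ g = fun n => conj (θ n)) (H : Subgroup G)
    (hdisj : ∀ x ∈ N, x ∈ H → x = 1) {k : ℕ} (hk : Odd k)
    (hcard : Nat.card G = k * (Nat.card H * Nat.card N)) :
    ∃ χ : Cfsg.IrrCharacter G, (∀ g : G, ((χ : G → ℂ) g).im = 0) ∧
      ∀ [Fintype N], Cfsg.classInner (fun n : N => (χ : G → ℂ) n) θ ≠ 0 := by
  classical
  letI : Fintype G := Fintype.ofFinite G
  have hm : ∀ χ : Cfsg.IrrCharacter G, ∃ m : ℕ,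
      Cfsg.classInner (fun h : H => (χ : G → ℂ) h) (fun _ => (1 : ℂ)) = m := fun χ =>
    classInner_character_irr (isCharacter_restrict H (isCharacter_of_isIrr χ.2)) isIrr_one
  choose m hm using hm
  have he : ∀ χ : Cfsg.IrrCharacter G, ∃ e : ℕ,
      Cfsg.classInner (fun n : N => (χ : G → ℂ) n) θ = e := fun χ =>
    classInner_character_irr (isCharacter_restrict N (isCharacter_of_isIrr χ.2)) hθ
  choose e he using he
  have hH0 : (Nat.card H : ℂ) ≠ 0 := Nat.cast_ne_zero.2 Nat.card_pos.ne'
  have hN0 : (Nat.card N : ℂ) ≠ 0 := Nat.cast_ne_zero.2 Nat.card_pos.ne'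
  have hm' : ∀ χ : Cfsg.IrrCharacter G,
      (Nat.card H : ℂ) * m χ = ∑ y : H, conj ((χ : G → ℂ) y) := fun χ => by
    rw [← Complex.conj_natCast (m χ), ← hm, ← classInner_conj_symm, Cfsg.classInner, ← mul_assoc,
      mul_inv_cancel₀ hH0, one_mul]
    exact Finset.sum_congr rfl fun y _ => one_mul _
  have he' : ∀ χ : Cfsg.IrrCharacter G,
      (Nat.card N : ℂ) * e χ = ∑ n : N, (χ : G → ℂ) n * conj (θ n) := fun χ => by
    rw [← he, Cfsg.classInner, ← mul_assoc, mul_inv_cancel₀ hN0, one_mul]
  have hcnt : ∑ χ, m χ * e χ = k * d := by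
    refine Nat.eq_of_mul_eq_mul_left
      (Nat.mul_pos (Nat.card_pos (α := H)) (Nat.card_pos (α := N))) ?_
    rw [← mul_assoc _ k, mul_comm _ k, ← hcard]
    apply Nat.cast_injective (R := ℂ)
    push_cast
    rw [Finset.mul_sum]
    calc ∑ χ : Cfsg.IrrCharacter G, (Nat.card H : ℂ) * Nat.card N * ((m χ : ℂ) * e χ)
        = ∑ χ : Cfsg.IrrCharacter G, ∑ n : N, ∑ y : H, conj (θ n) *
            ((χ : G → ℂ) n * conj ((χ : G → ℂ) y)) := by
          refine Finset.sum_congr rfl fun χ _ => ?_
          rw [mul_mul_mul_comm, hm', he', Finset.sum_mul, Finset.sum_comm]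
          refine Finset.sum_congr rfl fun y _ => ?_
          rw [Finset.mul_sum]
          exact Finset.sum_congr rfl fun n _ => by ring
      _ = ∑ n : N, ∑ y : H, conj (θ n) *
            ∑ χ : Cfsg.IrrCharacter G, (χ : G → ℂ) n * conj ((χ : G → ℂ) y) := by
          simp only [Finset.mul_sum]
          rw [Finset.sum_comm]
          exact Finset.sum_congr rfl fun n _ => Finset.sum_comm
      _ = _ := by
          rw [Finset.sum_eq_single_of_mem (1 : N) (Finset.mem_univ _) fun n _ hn => ?_,
            Finset.sum_eq_single_of_mem (1 : H) (Finset.mem_univ _) fun y _ hy => ?_]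
          · rw [sum_irr_mul_conj_of_isConj (by rfl), hd, Complex.conj_natCast, mul_comm,
              OneMemClass.coe_one]
            congr 2
            exact Nat.card_congr (Equiv.subtypeUnivEquiv fun x => by
              simp [Subgroup.mem_centralizer_iff])
          · rw [sum_irr_mul_conj_of_not_isConj, mul_zero]
            intro h
            rw [OneMemClass.coe_one, isConj_one_right] at h
            exact hy (Subtype.ext h)
          · refine Finset.sum_eq_zero fun y _ => ?_
            rw [sum_irr_mul_conj_of_not_isConj, mul_zero]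
            intro h
            obtain ⟨c, hc⟩ := isConj_iff.1 h
            have hy : (y : G) = 1 := hdisj y (hc ▸ hN.conj_mem n n.2 c) y.2
            rw [hy, isConj_one_left] at h
            exact hn (Subtype.ext h)
  have hodd : Odd (∑ χ, m χ * e χ) := by rw [hcnt]; exact hk.mul hd_odd
  have hbm : ∀ χ, m (BlocksCharsC.conjIrr χ) = m χ := fun χ => by
    apply Nat.cast_injective (R := ℂ)
    rw [← hm, ← Complex.conj_natCast (m χ), ← hm χ, ← classInner_conj_conj]
    congr 1
    funext _
    rw [map_one]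
  have hbe : ∀ χ, e (BlocksCharsC.conjIrr χ) = e χ := fun χ => by
    apply Nat.cast_injective (R := ℂ)
    rw [← Complex.conj_natCast (e (BlocksCharsC.conjIrr χ)), ← he,
      ← classInner_conj_conj, ← hg]
    show Cfsg.classInner (fun n : N => conj (conj ((χ : G → ℂ) n))) _ = _
    simp only [Complex.conj_conj]
    rw [Clifford.classInner_restrict_conjBy N (isClassFunction_of_isIrr χ.2), he]
  obtain ⟨χ, hfix, hodd'⟩ := BlocksCharsC.exists_fixed_odd_of_involution BlocksCharsC.conjIrr
    BlocksCharsC.conjIrr_conjIrr (fun χ => m χ * e χ) (fun χ => by rw [hbm, hbe]) hodd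
  have hne : Cfsg.classInner (fun n : N => (χ : G → ℂ) n) θ ≠ 0 := by
    rw [he]; exact_mod_cast (Nat.odd_mul.1 hodd').2.pos.ne'
  refine ⟨χ, fun g => Complex.conj_eq_iff_im.1 (BlocksCharsC.real_of_conjIrr_eq hfix g),
    fun {i} => ?_⟩
  convert hne

/-- A character of degree prime to `p` above `θ` makes every `p`-subgroup fix a conjugate of
`θ`. -/
theorem exists_conj_fixed {p : ℕ} [Fact p.Prime] [Fintype N] {χ : G → ℂ}
    (hχ : Cfsg.IsIrrCharacter G χ) (hp : ¬ p ∣ Cfsg.charDegree χ) {θ : N → ℂ}
    (hθ : Cfsg.IsIrrCharacter N θ) (h : Cfsg.classInner (fun n : N => χ n) θ ≠ 0)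
    {P : Subgroup G} (hP : IsPGroup p P) :
    ∃ g : G, ∀ x ∈ P, conjBy N (conjBy N θ g) x = conjBy N θ g := by
  classical
  letI : Fintype G := Fintype.ofFinite G
  let T : Subgroup G :=
    { carrier := {g | conjBy N θ g = θ}
      one_mem' := conjBy_one N θ
      mul_mem' := fun {x y} (hx : _ = θ) (hy : _ = θ) => by
        show _ = θ
        rw [← conjBy_mul, hx, hy]
      inv_mem' := fun {x} (hx : _ = θ) => by
        show _ = θ
        conv_lhs => rw [← hx]
        rw [conjBy_mul, mul_inv_cancel, conjBy_one] }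
  obtain ⟨e, he⟩ := classInner_character_irr (isCharacter_restrict N (isCharacter_of_isIrr hχ)) hθ
  obtain ⟨d, hd⟩ := exists_degree (isCharacter_of_isIrr hθ)
  have hdeg : χ 1 = ((e * (T.index * d) : ℕ) : ℂ) := by
    have h5 := congrFun (Clifford.restrict_eq_orbit_sum N hχ hθ h) 1
    simp only [Pi.smul_apply, Finset.sum_apply, smul_eq_mul, he, OneMemClass.coe_one] at h5
    have hidx : (Clifford.orbit N θ).card = T.index := by
      have h4 := Clifford.card_orbit_mul N θ T fun g => Iff.rfl
      rw [← Subgroup.index_mul_card T] at h4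
      exact Nat.eq_of_mul_eq_mul_right Nat.card_pos h4
    rw [h5, Finset.sum_congr rfl (g := fun _ => θ 1) fun φ hφ => ?_, Finset.sum_const, hidx,
      nsmul_eq_mul, hd]
    · push_cast; ring
    · obtain ⟨g, rfl⟩ := (Clifford.mem_orbit N).1 hφ
      exact congrArg θ (Subtype.ext (by simp))
  have hT : ¬ p ∣ T.index := fun hdvd => hp (by
    rw [show Cfsg.charDegree χ = e * (T.index * d) by
      rw [Cfsg.charDegree, hdeg, Complex.natCast_re, Nat.floor_natCast]]
    exact (hdvd.mul_right d).mul_left e)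
  obtain ⟨R⟩ : Nonempty (Sylow p T) := Sylow.nonempty
  let R' : Subgroup G := (R : Subgroup T).map T.subtype
  have hR' : ¬ p ∣ R'.index := by
    rw [Subgroup.index_map_subtype]
    exact (Fact.out (p := p.Prime)).not_dvd_mul R.not_dvd_index hT
  obtain ⟨Q, hQ⟩ := hP.exists_le_sylow
  let RS : Sylow p G := (R.2.map T.subtype).toSylow hR'
  obtain ⟨g, hg⟩ := MulAction.exists_smul_eq G Q RS
  refine ⟨g, fun x hx => ?_⟩
  have hmem : g * x * g⁻¹ ∈ (RS : Subgroup G) := by
    rw [← hg]
    show g * x * g⁻¹ ∈ MulAut.conj g • (Q : Subgroup G)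
    rw [Subgroup.mem_smul_pointwise_iff_exists]
    exact ⟨x, hQ hx, rfl⟩
  have hTm : g * x * g⁻¹ ∈ T := Subgroup.map_subtype_le _ hmem
  have h2 : conjBy N θ (g * x * g⁻¹) = θ := hTm
  conv_rhs => rw [← h2]
  rw [conjBy_mul, conjBy_mul]
  congr 1
  group

/-- Characters of an abelian group separate it. -/
theorem exists_hom_ne_one {A : Type v} [Group A] [Finite A] (hA : ∀ x y : A, x * y = y * x)
    {a : A} (ha : a ≠ 1) : ∃ f : A →* ℂˣ, f a ≠ 1 := by
  letI : CommGroup A := { (inferInstance : Group A) with mul_comm := hA }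
  haveI : NeZero (Monoid.exponent A : ℂ) :=
    ⟨Nat.cast_ne_zero.2 Monoid.exponent_ne_zero_of_finite⟩
  exact CommGroup.exists_apply_ne_one_of_hasEnoughRootsOfUnity A ℂ ha

end CfsgLib.RealPDegree
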