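import Cfsg.Agent.OddIndexGalois.Extension
import Cfsg.Agent.BlocksCharsC.RealOddFiber
import Cfsg.Agent.BlocksCharsC.RealConstituents
import Cfsg.Agent.Glauberman.Constituent

/-!
# Real characters over a normal subgroup of odd index

For `K` normal of odd index the real irreducible characters of `G` correspond to the orbits of `G`
on the real irreducible characters of `K`; the one over `θ` has degree `|G : G_θ| θ(1)`.
-/

set_option autoImplicit false
set_option linter.style.haveILetI false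
set_option linter.unusedSectionVars false

namespace CfsgLib.RealPDegree

open CfsgLib.Characters CfsgLib.CharactersDeep
open CfsgLib.OddOrderChar (conjBy conjBy_one conjBy_mul conjBy_apply)
open scoped ComplexConjugate

universe u

variable {G : Type u} [Group G] [Finite G]

/-- The exponent of inversion. -/
noncomputable abbrev invExp (G : Type u) [Group G] : ℕ := 2 * Nat.card G - 1

theorem pow_invExp (a : G) : a ^ invExp G = a⁻¹ := by
  have h := Nat.card_pos (α := G)
  refine eq_inv_of_mul_eq_one_left ?_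
  rw [← pow_succ, invExp, Nat.sub_add_cancel (by omega), mul_comm, pow_mul, pow_card_eq_one',
    one_pow]

theorem galExp_inv : OddIndexGalois.GalExp G (invExp G) := by
  have h := Nat.card_pos (α := G)
  refine ⟨?_, ⟨1, ?_⟩, fun a _ => pow_invExp a⟩
  · refine Nat.coprime_of_dvd fun q hq h1 h2 => hq.ne_one (Nat.dvd_one.1 ?_)
    have := Nat.dvd_sub (h2.mul_left 2) h1
    rwa [show 2 * Nat.card G - invExp G = 1 by simp only [invExp]; omega] at this
  · simp only [invExp]
    refine (Nat.modEq_iff_dvd' (Nat.one_le_pow _ _ (by omega))).2 ?_ |>.symm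
    obtain ⟨n, hn⟩ : ∃ n, Nat.card G = n + 1 := ⟨Nat.card G - 1, by omega⟩
    rw [hn]
    refine ⟨4 * n, ?_⟩
    rw [show 2 * (n + 1) - 1 = 2 * n + 1 by omega]
    ring_nf
    omega

theorem real_iff_pow {χ : G → ℂ} (hχ : Cfsg.IsIrrCharacter G χ) :
    (∀ g, (χ g).im = 0) ↔ ∀ g, χ (g ^ invExp G) = χ g := by
  refine forall_congr' fun g => ?_
  rw [pow_invExp, character_inv (isCharacter_of_isIrr hχ), Complex.conj_eq_iff_im]

variable (K : Subgroup G) [hK : K.Normal] [Fintype K]

theorem mult_conj_of_real (χ : Cfsg.IrrCharacter G) (hχ : ∀ g, ((χ : G → ℂ) g).im = 0)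
    (θ : K → ℂ) : Cfsg.classInner (fun n : K => (χ : G → ℂ) n) (fun n => conj (θ n)) =
      conj (Cfsg.classInner (fun n : K => (χ : G → ℂ) n) θ) := by
  rw [← classInner_conj_conj]
  congr 1
  exact funext fun n => (Complex.conj_eq_iff_im.2 (hχ n)).symm

theorem pow_subgroup {θ : K → ℂ} (hθ : Cfsg.IsIrrCharacter K θ) (hr : ∀ k, (θ k).im = 0) (n : K) :
    θ (n ^ invExp G) = θ n := by
  rw [show n ^ invExp G = n⁻¹ from Subtype.ext (by
      rw [Subgroup.coe_pow, Subgroup.coe_inv, pow_invExp]),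
    character_inv (isCharacter_of_isIrr hθ), Complex.conj_eq_iff_im.2 (hr n)]

/-- A real character over a real character. -/
theorem exists_real_over_real (hodd : Odd K.index) {θ : K → ℂ} (hθ : Cfsg.IsIrrCharacter K θ)
    (hr : ∀ k, (θ k).im = 0) : ∃ χ : Cfsg.IrrCharacter G, (∀ g, ((χ : G → ℂ) g).im = 0) ∧
      Cfsg.classInner (fun n : K => (χ : G → ℂ) n) θ ≠ 0 := by
  letI : Fintype G := Fintype.ofFinite G
  obtain ⟨e, he⟩ := (galExp_inv (G := G)).exists_two_pow
  obtain ⟨χ, hne, hfix⟩ := OddIndexGalois.exists_fixed_over K galExp_inv.coprime he hodd hθ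
    (pow_subgroup K hθ hr)
  refine ⟨χ, (real_iff_pow χ.2).2 fun g => ?_, hne⟩
  conv_rhs => rw [← hfix, OddIndexGalois.galPerm_apply]

/-- Only one real character lies over a real character. -/
theorem real_over_unique (hodd : Odd K.index) {θ : K → ℂ} (hθ : Cfsg.IsIrrCharacter K θ)
    (χ χ' : Cfsg.IrrCharacter G) (hr : ∀ g, ((χ : G → ℂ) g).im = 0)
    (hr' : ∀ g, ((χ' : G → ℂ) g).im = 0)
    (h : Cfsg.classInner (fun n : K => (χ : G → ℂ) n) θ ≠ 0)
    (h' : Cfsg.classInner (fun n : K => (χ' : G → ℂ) n) θ ≠ 0) : χ = χ' := by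
  letI : Fintype G := Fintype.ofFinite G
  obtain ⟨e, he⟩ := (galExp_inv (G := G)).exists_two_pow
  refine OddIndexGalois.fixed_over_unique K galExp_inv.coprime he hodd galExp_inv.inverts hθ χ χ' h
    (Subtype.ext (funext fun g => ?_)) h' (Subtype.ext (funext fun g => ?_))
  · rw [OddIndexGalois.galPerm_apply]; exact (real_iff_pow χ.2).1 hr g
  · rw [OddIndexGalois.galPerm_apply]; exact (real_iff_pow χ'.2).1 hr' g

/-- A real character has a real constituent on a normal subgroup of odd index. -/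
theorem exists_real_constituent (hodd : Odd K.index) (χ : Cfsg.IrrCharacter G)
    (hr : ∀ g, ((χ : G → ℂ) g).im = 0) : ∃ θ : Cfsg.IrrCharacter K,
      (∀ k, ((θ : K → ℂ) k).im = 0) ∧
      Cfsg.classInner (fun n : K => (χ : G → ℂ) n) (θ : K → ℂ) ≠ 0 := by
  classical
  letI : Fintype G := Fintype.ofFinite G
  obtain ⟨θ₀, hθ₀⟩ : ∃ θ₀ : Cfsg.IrrCharacter K,
      Cfsg.classInner (fun n : K => (χ : G → ℂ) n) (θ₀ : K → ℂ) ≠ 0 := by
    by_contra hcon
    push Not at hcon
    obtain ⟨m, hm⟩ := exists_nat_coeff (isCharacter_restrict K (isCharacter_of_isIrr χ.2))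
    have h0 : ∀ θ : Cfsg.IrrCharacter K, m θ = 0 := fun θ => by
      have h := hcon θ
      rw [hm, classInner_irr_coeff (fun φ => (m φ : ℂ)) θ, Nat.cast_eq_zero] at h
      exact h
    have h1 : (χ : G → ℂ) 1 = 0 := by
      have := congrFun hm 1
      simpa [h0] using this
    exact irr_one_ne_zero χ.2 h1
  set O := Clifford.orbit K (θ₀ : K → ℂ) with hO
  have hirr : ∀ φ ∈ O, Cfsg.IsIrrCharacter K φ ∧
      Cfsg.classInner (fun n : K => (χ : G → ℂ) n) φ ≠ 0 := fun φ hφ => by
    obtain ⟨g, rfl⟩ := (Clifford.mem_orbit K).1 hφ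
    refine ⟨Clifford.isIrr_conjBy K θ₀.2 g, ?_⟩
    rw [Clifford.classInner_restrict_conjBy K (isClassFunction_of_isIrr χ.2)]
    exact hθ₀
  have hbar : ∀ φ ∈ O, (fun n => conj (φ n)) ∈ O := fun φ hφ => by
    obtain ⟨hi, hne⟩ := hirr φ hφ
    obtain ⟨g, hg⟩ := Clifford.exists_conjBy_of_constituents K χ.2 θ₀.2 (isIrr_conj hi) hθ₀
      (by rw [mult_conj_of_real K χ hr]; simpa using hne)
    exact (Clifford.mem_orbit K).2 ⟨g, hg.symm⟩
  let T := BlocksCharsC.conjStab K (θ₀ : K → ℂ)
  have hT : O.card = T.index := by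
    have h4 := Clifford.card_orbit_mul K (θ₀ : K → ℂ) T fun g => Iff.rfl
    rw [← Subgroup.index_mul_card T] at h4
    exact Nat.eq_of_mul_eq_mul_right Nat.card_pos h4
  have hOodd : Odd O.card := by
    rw [hT]
    exact hodd.of_dvd_nat (Subgroup.index_dvd_of_le
      (BlocksCharsC.le_conjStab K (isClassFunction_of_isIrr θ₀.2)))
  obtain ⟨φ, hfix, -⟩ := BlocksCharsC.exists_fixed_odd_of_involution
    (fun φ : O => (⟨fun n => conj (φ.1 n), hbar _ φ.2⟩ : O))
    (fun φ => Subtype.ext (funext fun n => Complex.conj_conj _)) (fun _ => 1) (fun _ => rfl)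
    (by simpa using hOodd)
  exact ⟨⟨φ.1, (hirr _ φ.2).1⟩,
    fun k => Complex.conj_eq_iff_im.1 (congrFun (congrArg Subtype.val hfix) k), (hirr _ φ.2).2⟩

/-- The degree of the real character over a real character. -/
theorem real_over_degree (hodd : Odd K.index) {θ : K → ℂ} (hθ : Cfsg.IsIrrCharacter K θ)
    (hr : ∀ k, (θ k).im = 0) (χ : Cfsg.IrrCharacter G) (hχ : ∀ g, ((χ : G → ℂ) g).im = 0)
    (h : Cfsg.classInner (fun n : K => (χ : G → ℂ) n) θ ≠ 0) :
    (χ : G → ℂ) 1 = ((BlocksCharsC.conjStab K θ).index : ℂ) * θ 1 := by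
  classical
  letI : Fintype G := Fintype.ofFinite G
  set T := BlocksCharsC.conjStab K θ with hTdef
  have hKT : K ≤ T := BlocksCharsC.le_conjStab K (isClassFunction_of_isIrr hθ)
  let E : K.subgroupOf T ≃* K := Subgroup.subgroupOfEquivOfLe hKT
  haveI : (K.subgroupOf T).Normal := Subgroup.normal_subgroupOf
  let θ' : K.subgroupOf T → ℂ := fun x => θ (E x)
  have hθ' : Cfsg.IsIrrCharacter (K.subgroupOf T) θ' := isIrr_comp E.toMonoidHom E.surjective hθ
  have hk := (galExp_inv (G := G)).subgroup T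
  obtain ⟨η, hη⟩ := OddIndexGalois.exists_ext (K.subgroupOf T) hk
    (hodd.of_dvd_nat (Subgroup.relIndex_dvd_index_of_normal K T)) hθ'
    (fun n => by
      show θ (E (n ^ invExp G)) = θ (E n)
      rw [map_pow]
      exact pow_subgroup K hθ hr (E n))
    (fun t => funext fun x => by
      have h2 := congrFun (show conjBy K θ (t : G) = θ from t.2) (E x)
      exact h2)
  have hηreal : ∀ t : T, (η t).im = 0 := fun t => by
    have h1 := hη.fixed t
    rwa [show t ^ invExp G = t⁻¹ from Subtype.ext (by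
        rw [Subgroup.coe_pow, Subgroup.coe_inv, pow_invExp]),
      character_inv (isCharacter_of_isIrr hη.irr), Complex.conj_eq_iff_im] at h1
  have hres : (fun n : K => η ⟨n, hKT n.2⟩) = θ := funext fun n => by
    have := hη.res (E.symm n)
    simp only [θ', MulEquiv.apply_symm_apply] at this
    rw [← this]
    exact congrArg η (Subtype.ext rfl)
  have hF := isCharacter_indFun T (isCharacter_of_isIrr hη.irr)
  obtain ⟨d, hd⟩ := exists_degree (isCharacter_of_isIrr hθ)
  have hη1 : η 1 = θ 1 := congrFun hres 1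
  have hF1 : Cfsg.indFun T η 1 = ((T.index * d : ℕ) : ℂ) := by
    rw [indFun_one, hη1, hd]; push_cast; rfl
  obtain ⟨ψ, hψ⟩ : ∃ ψ : Cfsg.IrrCharacter G,
      Cfsg.classInner (Cfsg.indFun T η) (ψ : G → ℂ) ≠ 0 := by
    by_contra hcon
    push Not at hcon
    obtain ⟨m, hm⟩ := exists_nat_coeff hF
    have h0 : ∀ φ : Cfsg.IrrCharacter G, m φ = 0 := fun φ => by
      have h := hcon φ
      rw [hm, classInner_irr_coeff (fun φ => (m φ : ℂ)) φ, Nat.cast_eq_zero] at h
      exact h
    have h1 : Cfsg.indFun T η 1 = 0 := by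
      rw [hm]; simp [h0]
    rw [indFun_one, mul_eq_zero] at h1
    rcases h1 with h1 | h1
    · exact Nat.cast_ne_zero.2 Subgroup.index_ne_zero_of_finite h1
    · exact irr_one_ne_zero hη.irr h1
  have hψη : Cfsg.classInner (fun t : T => (ψ : G → ℂ) t) η ≠ 0 := by
    intro h0
    apply hψ
    rw [classInner_indFun T η (isClassFunction_of_isIrr ψ.2), classInner_conj_symm, h0, map_zero]
  have hψθ : Cfsg.classInner (fun n : K => (ψ : G → ℂ) n) θ ≠ 0 :=
    Glauberman.classInner_ne_zero_trans (Subgroup.inclusion hKT)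
      (isCharacter_restrict T (isCharacter_of_isIrr ψ.2)) ⟨η, hη.irr⟩ ⟨θ, hθ⟩ hψη (by
        show Cfsg.classInner (fun n : K => η ⟨n, hKT n.2⟩) θ ≠ 0
        rw [hres, classInner_isIrr_self hθ]; exact one_ne_zero)
  obtain ⟨c, hc⟩ := exists_degree (isCharacter_of_isIrr ψ.2)
  have hle : T.index * d ≤ c := by
    obtain ⟨e, he⟩ := classInner_character_irr (isCharacter_restrict K (isCharacter_of_isIrr ψ.2)) hθ
    have he0 : 0 < e := Nat.pos_of_ne_zero fun h0 => hψθ (by rw [he, h0, Nat.cast_zero])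
    have h5 := OddIndexGalois.degree_eq K hθ ψ hψθ
    have hidx : (Clifford.orbit K θ).card = T.index := by
      have h4 := Clifford.card_orbit_mul K θ T fun g => Iff.rfl
      rw [← Subgroup.index_mul_card T] at h4
      exact Nat.eq_of_mul_eq_mul_right Nat.card_pos h4
    have h6 : c = e * T.index * d := Nat.cast_injective (R := ℂ) (by
      rw [← hc, h5, OddIndexGalois.mult, he, hidx, hd]; push_cast; rfl)
    rw [h6, mul_assoc]
    exact Nat.le_mul_of_pos_left _ he0
  have hFψ := Clifford.eq_of_constituent_of_degree_le hF ψ.2 hψ hF1 hc hle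
  have hψr : ∀ g, ((ψ : G → ℂ) g).im = 0 := fun g => by
    rw [← Complex.conj_eq_iff_im, ← hFψ, BlocksCharsC.indFun_conj]
    exact congrArg (fun F => Cfsg.indFun T F g)
      (funext fun t => Complex.conj_eq_iff_im.2 (hηreal t))
  rw [real_over_unique K hodd hθ χ ψ hχ hψr h hψθ, ← hFψ, hF1, hd]
  push_cast
  rfl

end CfsgLib.RealPDegree
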