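import Cfsg.Agent.RealPDegree.Main
import Cfsg.Agent.RealPDegree.OddIndex
import Cfsg.Agent.RelGlauberman.Correspondence
import Cfsg.Agent.Glauberman.Setting
import Cfsg.Agent.RealChars.Basic

/-!
# Real characters and the normalizer of a Sylow subgroup

If all real irreducible characters of `G` have degree prime to `p`, `K` is normal of odd index and
a Sylow subgroup `P` meets it in a normal subgroup, then the real irreducible characters of `G`
correspond to the real irreducible characters of `p'`-degree of `N_G(P)`, with degrees congruent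
up to sign, and every real class meets `N_G(P)`.
-/

set_option autoImplicit false
set_option linter.style.haveILetI false
set_option linter.unusedSectionVars false

namespace CfsgLib.RealPDegree

open CfsgLib.Characters CfsgLib.CharactersDeep
open CfsgLib.OddOrderChar (conjBy conjBy_one conjBy_mul conjBy_apply)
open scoped ComplexConjugate Pointwise

universe u

variable {G : Type u} [Group G] [Finite G]

theorem charDegree_eq {A : Type u} [Group A] {χ : A → ℂ} {d : ℕ} (h : χ 1 = d) :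
    Cfsg.charDegree χ = d := by
  rw [Cfsg.charDegree, h, Complex.natCast_re, Nat.floor_natCast]

theorem relIndex_inf_sylow {p : ℕ} [Fact p.Prime] (K : Subgroup G) [K.Normal] (P : Sylow p G) :
    ¬ p ∣ ((P : Subgroup G) ⊓ K).relIndex K := by
  set L := (P : Subgroup G) ⊓ K with hL
  intro h
  have h1 := Subgroup.relIndex_mul_relIndex ⊥ L K bot_le inf_le_right
  have h2 := Subgroup.relIndex_mul_relIndex ⊥ L (P : Subgroup G) bot_le inf_le_left
  have h3 := Subgroup.relIndex_mul_relIndex ⊥ K ((P : Subgroup G) ⊔ K) bot_le le_sup_right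
  have h4 := Subgroup.relIndex_mul_relIndex ⊥ (P : Subgroup G) ((P : Subgroup G) ⊔ K) bot_le
    le_sup_left
  simp only [Subgroup.relIndex_bot_left] at h1 h2 h3 h4
  have h5 : L.relIndex (P : Subgroup G) = K.relIndex (P : Subgroup G) := by
    rw [hL, inf_comm, Subgroup.inf_relIndex_right]
  rw [Subgroup.relIndex_sup_right] at h3
  have h6 : L.relIndex K = (P : Subgroup G).relIndex ((P : Subgroup G) ⊔ K) := by
    have h7 : Nat.card (P : Subgroup G) *
        (P : Subgroup G).relIndex ((P : Subgroup G) ⊔ K) = Nat.card (P : Subgroup G) * L.relIndex K := by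
      rw [h4, ← h3, ← h1, ← h2, h5]; ring
    exact (Nat.eq_of_mul_eq_mul_left Nat.card_pos h7).symm
  rw [h6] at h
  exact P.not_dvd_index (h.trans (Subgroup.relIndex_dvd_index_of_le le_sup_left))

/-- The transversal of the normalizer inside a subgroup containing a Sylow subgroup. -/
theorem index_modEq {p : ℕ} [Fact p.Prime] (P : Sylow p G) {T : Subgroup G}
    (hPT : (P : Subgroup G) ≤ T) :
    T.index ≡ T.relIndex (Subgroup.normalizer ((P : Subgroup G) : Set G)) [MOD p] := by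
  set N := Subgroup.normalizer ((P : Subgroup G) : Set G) with hN
  have h1 : N.index ≡ 1 [MOD p] := by
    have := card_sylow_modEq_one (p := p) (G := G)
    rwa [Sylow.card_eq_index_normalizer P] at this
  have h2 : N.relIndex T ≡ 1 [MOD p] := by
    have := card_sylow_modEq_one (p := p) (G := T)
    rw [Sylow.card_eq_index_normalizer (P.subtype hPT)] at this
    rw [Subgroup.relIndex, hN, Subgroup.subgroupOf_normalizer_eq hPT]
    exact this
  have h3 : N.relIndex T * T.index = T.relIndex N * N.index := by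
    rw [← Subgroup.inf_relIndex_right N T, ← Subgroup.inf_relIndex_right T N,
      Subgroup.relIndex_mul_index inf_le_right, Subgroup.relIndex_mul_index inf_le_right, inf_comm]
  calc T.index = 1 * T.index := (one_mul _).symm
    _ ≡ N.relIndex T * T.index [MOD p] := h2.symm.mul_right _
    _ = T.relIndex N * N.index := h3
    _ ≡ T.relIndex N * 1 [MOD p] := h1.mul_left _
    _ = T.relIndex N := mul_one _

section Main

variable {p : ℕ} [hp : Fact p.Prime] (K : Subgroup G) [hK : K.Normal] (P : Sylow p G)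

/-- The subgroup `K ∩ N_G(P)` inside the normalizer and in `G`. -/
def capEquiv : K.subgroupOf (Subgroup.normalizer ((P : Subgroup G) : Set G)) ≃*
    (K ⊓ Subgroup.normalizer ((P : Subgroup G) : Set G) : Subgroup G) where
  toFun x := ⟨x.1.1, x.2, x.1.2⟩
  invFun y := ⟨⟨y.1, y.2.2⟩, y.2.1⟩
  left_inv _ := rfl
  right_inv _ := rfl
  map_mul' _ _ := rfl

theorem capEquiv_coe (x : K.subgroupOf (Subgroup.normalizer ((P : Subgroup G) : Set G))) :
    (capEquiv K P x : G) = ((x : Subgroup.normalizer ((P : Subgroup G) : Set G)) : G) := rfl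

/-- Real characters of `G` and real `p'`-degree characters of the normalizer. -/
theorem exists_correspondence (hreal : RealPrime p G) (hodd : Odd K.index)
    (hL : ((P : Subgroup G) ⊓ K).Normal) :
    ∃ F : {χ : Cfsg.IrrCharacter G // ∀ g : G, ((χ : G → ℂ) g).im = 0} →
        {ξ : Cfsg.IrrCharacter ↥(Subgroup.normalizer ((P : Subgroup G) : Set G)) //
          (∀ n, ((ξ : ↥(Subgroup.normalizer ((P : Subgroup G) : Set G)) → ℂ) n).im = 0) ∧
          ¬ p ∣ Cfsg.charDegree (ξ : ↥(Subgroup.normalizer ((P : Subgroup G) : Set G)) → ℂ)},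
      Function.Bijective F ∧ ∀ χ,
        ((Cfsg.charDegree ((F χ).1 : ↥(Subgroup.normalizer ((P : Subgroup G) : Set G)) → ℂ) :
            ZMod p) = (Cfsg.charDegree (χ.1 : G → ℂ) : ZMod p) ∨
          (Cfsg.charDegree ((F χ).1 : ↥(Subgroup.normalizer ((P : Subgroup G) : Set G)) → ℂ) :
            ZMod p) = -(Cfsg.charDegree (χ.1 : G → ℂ) : ZMod p)) := by
  classical
  haveI := hL
  letI : Fintype G := Fintype.ofFinite G
  set N := Subgroup.normalizer ((P : Subgroup G) : Set G) with hN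
  set L := (P : Subgroup G) ⊓ K with hLdef
  set C := K ⊓ N with hCdef
  letI : Fintype K := Fintype.ofFinite K
  letI : Fintype C := Fintype.ofFinite C
  letI : Fintype N := Fintype.ofFinite N
  letI : Fintype (K.subgroupOf N) := Fintype.ofFinite _
  haveI : (K.subgroupOf N).Normal := Subgroup.normal_subgroupOf
  have hodd' : Odd (K.subgroupOf N).index :=
    hodd.of_dvd_nat (Subgroup.relIndex_dvd_index_of_normal K N)
  have hPN : (P : Subgroup G) ≤ N := Subgroup.le_normalizer
  -- normalising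
  have hnK : ∀ S : Subgroup G, RelGlauberman.Normalises S K := fun S x _ h hh => hK.conj_mem h hh x
  have hNP : ∀ n ∈ N, ∀ x ∈ (P : Subgroup G), n * x * n⁻¹ ∈ (P : Subgroup G) := fun n hn x hx =>
    (Subgroup.mem_normalizer_iff.1 hn x).1 hx
  have hnC : RelGlauberman.Normalises N C := fun n hn c hc =>
    ⟨hK.conj_mem c hc.1 n, N.mul_mem (N.mul_mem hn hc.2) (N.inv_mem hn)⟩
  have hnCP : RelGlauberman.Normalises (P : Subgroup G) C := fun x hx => hnC x (hPN hx)
  have hfixmod : RelGlauberman.IsFixedMod (P : Subgroup G) K L C := by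
    intro k
    constructor
    · rintro ⟨hkK, hkN⟩
      refine ⟨hkK, fun x hx => ⟨?_, ?_⟩⟩
      · have h1 := hNP k hkN x⁻¹ (inv_mem hx)
        rw [show x * k * x⁻¹ * k⁻¹ = x * (k * x⁻¹ * k⁻¹) by group]
        exact mul_mem hx h1
      · exact K.mul_mem (hK.conj_mem k hkK x) (K.inv_mem hkK)
    · rintro ⟨hkK, hk⟩
      refine ⟨hkK, ?_⟩
      have hle : (P : Subgroup G).map (MulAut.conj k : G →* G) ≤ (P : Subgroup G) := by
        rintro _ ⟨x, hx, rfl⟩
        have h1 := (hk x⁻¹ (inv_mem hx)).1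
        show k * x * k⁻¹ ∈ (P : Subgroup G)
        have h2 : k * x * k⁻¹ = x * (x⁻¹ * k * x⁻¹⁻¹ * k⁻¹) := by group
        rw [h2]
        exact mul_mem hx h1
      show k ∈ Subgroup.normalizer ((P : Subgroup G) : Set G)
      rw [Subgroup.mem_normalizer_iff_map_conj_eq]
      exact Subgroup.eq_of_le_of_card_ge hle
        (le_of_eq (Subgroup.card_map_of_injective (MulAut.conj k).injective).symm)
  obtain ⟨f, hf⟩ := (RelGlauberman.hasCorr_iff hfixmod.le).1
    (RelGlauberman.relative_glauberman (P : Subgroup G) K L C P.2 (hnK _)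
      (fun x _ h hh => hL.conj_mem h hh x) inf_le_right (fun k _ q hq => hL.conj_mem q hq k)
      (relIndex_inf_sylow K P) hfixmod)
  -- the characterisation of `f`
  have hchar : ∀ θ ξ, (RelGlauberman.multNat hfixmod.le θ.1 ξ.1 : ZMod p) ≠ 0 ↔ ξ = f θ := by
    intro θ ξ
    constructor
    · intro h
      by_contra hne
      exact h ((hf θ ξ).2 hne)
    · intro h
      rcases (hf θ ξ).1 h with h1 | h1 <;> rw [h1]
      · exact one_ne_zero
      · exact neg_ne_zero.2 one_ne_zero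
  -- conjugation by the normalizer
  let aK := RelGlauberman.irrAction (hnK N)
  let aC := RelGlauberman.irrAction hnC
  have hinvK : ∀ (y : N) (θ : Cfsg.IrrCharacter K),
      RelGlauberman.PInv (P : Subgroup G) K (θ : K → ℂ) →
      RelGlauberman.PInv (P : Subgroup G) K ((aK.smul y θ : Cfsg.IrrCharacter K) : K → ℂ) := by
    intro y θ hθ x hx k k' hkk
    rw [RelGlauberman.irrAction_apply, RelGlauberman.irrAction_apply]
    refine hθ ((y : G)⁻¹ * x * y) ?_ _ _ ?_
    · simpa using hNP _ (N.inv_mem y.2) x hx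
    · simp [RelGlauberman.conjAutInv, hkk, mul_assoc]
  have hinvC : ∀ (y : N) (ξ : Cfsg.IrrCharacter C),
      RelGlauberman.PInv (P : Subgroup G) C (ξ : C → ℂ) →
      RelGlauberman.PInv (P : Subgroup G) C ((aC.smul y ξ : Cfsg.IrrCharacter C) : C → ℂ) := by
    intro y θ hθ x hx k k' hkk
    rw [RelGlauberman.irrAction_apply, RelGlauberman.irrAction_apply]
    refine hθ ((y : G)⁻¹ * x * y) ?_ _ _ ?_
    · simpa using hNP _ (N.inv_mem y.2) x hx
    · simp [RelGlauberman.conjAutInv, hkk, mul_assoc]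
  have hequiv : ∀ (y : N) (θ : RelGlauberman.Inv (P : Subgroup G) K),
      (f ⟨aK.smul y θ.1, hinvK y θ.1 θ.2⟩).1 = aC.smul y (f θ).1 := by
    intro y θ
    have h1 : RelGlauberman.multNat hfixmod.le (aK.smul y θ.1) (aC.smul y (f θ).1) =
        RelGlauberman.multNat hfixmod.le θ.1 (f θ).1 := RelGlauberman.multNat_smul _ _ _ _ _ _
    have h2 := (hchar ⟨aK.smul y θ.1, hinvK y θ.1 θ.2⟩ ⟨aC.smul y (f θ).1, hinvC y _ (f θ).2⟩).1
      (by rw [h1]; exact (hchar θ (f θ)).2 rfl)
    exact (congrArg Subtype.val h2).symm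
  -- complex conjugation
  let barK : RelGlauberman.Inv (P : Subgroup G) K → RelGlauberman.Inv (P : Subgroup G) K :=
    fun θ => ⟨⟨fun k => conj ((θ.1 : K → ℂ) k), isIrr_conj θ.1.2⟩,
      fun x hx k k' h => congrArg conj (θ.2 x hx k k' h)⟩
  let barC : RelGlauberman.Inv (P : Subgroup G) C → RelGlauberman.Inv (P : Subgroup G) C :=
    fun θ => ⟨⟨fun k => conj ((θ.1 : C → ℂ) k), isIrr_conj θ.1.2⟩,
      fun x hx k k' h => congrArg conj (θ.2 x hx k k' h)⟩
  have hbar : ∀ θ, f (barK θ) = barC (f θ) := by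
    intro θ
    refine ((hchar _ _).1 ?_).symm
    have h1 : RelGlauberman.multNat hfixmod.le (barK θ).1 (barC (f θ)).1 =
        RelGlauberman.multNat hfixmod.le θ.1 (f θ).1 := by
      apply RelGlauberman.multNat_unique
      rw [RelGlauberman.multRes_eq_classInner]
      show Cfsg.classInner (fun c : C => conj ((θ.1 : K → ℂ) (Subgroup.inclusion hfixmod.le c)))
        (fun c : C => conj (((f θ).1 : C → ℂ) c)) = _
      rw [classInner_conj_conj, ← RelGlauberman.multRes_eq_classInner hfixmod.le,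
        RelGlauberman.multNat_spec, Complex.conj_natCast]
    rw [h1]
    exact (hchar θ (f θ)).2 rfl
  have hrealf : ∀ θ, (∀ k, ((θ.1 : K → ℂ) k).im = 0) ↔ ∀ c, (((f θ).1 : C → ℂ) c).im = 0 := by
    intro θ
    constructor
    · intro h c
      have h1 : barK θ = θ :=
        Subtype.ext (Subtype.ext (funext fun k => Complex.conj_eq_iff_im.2 (h k)))
      have h2 := hbar θ
      rw [h1] at h2
      exact Complex.conj_eq_iff_im.1 (congrFun (congrArg Subtype.val (congrArg Subtype.val h2.symm)) c)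
    · intro h k
      have h1 : barC (f θ) = f θ :=
        Subtype.ext (Subtype.ext (funext fun c => Complex.conj_eq_iff_im.2 (h c)))
      have h2 := hbar θ
      rw [h1] at h2
      exact Complex.conj_eq_iff_im.1
        (congrFun (congrArg Subtype.val (congrArg Subtype.val (f.injective h2))) k)
  -- characters of `C` seen in the normalizer
  let e := capEquiv K P
  let tC : Cfsg.IrrCharacter C ≃ Cfsg.IrrCharacter (K.subgroupOf N) := Glauberman.irrCongr e
  have htC : ∀ (y : N) (ξ : Cfsg.IrrCharacter C),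
      ((tC (aC.smul y ξ) : Cfsg.IrrCharacter (K.subgroupOf N)) : K.subgroupOf N → ℂ) =
        conjBy (K.subgroupOf N) (tC ξ : K.subgroupOf N → ℂ) y⁻¹ := by
    intro y ξ
    funext x
    show (ξ : C → ℂ) (RelGlauberman.conjAutInv hnC y (e x)) = (ξ : C → ℂ) (e ⟨_, _⟩)
    exact congrArg (ξ : C → ℂ) (Subtype.ext (by simp [RelGlauberman.conjAutInv, e]; rfl))
  have haK : ∀ (y : N) (θ : Cfsg.IrrCharacter K),
      ((aK.smul y θ : Cfsg.IrrCharacter K) : K → ℂ) = conjBy K (θ : K → ℂ) (y : G)⁻¹ := by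
    intro y θ
    funext x
    show (θ : K → ℂ) (RelGlauberman.conjAutInv (hnK N) y x) = (θ : K → ℂ) ⟨_, _⟩
    exact congrArg (θ : K → ℂ) (Subtype.ext (by simp [RelGlauberman.conjAutInv]))
  have hpinv : ∀ θ : Cfsg.IrrCharacter K, RelGlauberman.PInv (P : Subgroup G) K (θ : K → ℂ) ↔
      ∀ x ∈ (P : Subgroup G), conjBy K (θ : K → ℂ) x = (θ : K → ℂ) := by
    intro θ
    constructor
    · exact fun h x hx => funext fun k => h x hx k _ rfl
    · intro h x hx k k' hk
      rw [← congrFun (h x hx) k]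
      exact congrArg (θ : K → ℂ) (Subtype.ext hk)
  -- selection of an invariant real constituent
  have hsel : ∀ χ : {χ : Cfsg.IrrCharacter G // ∀ g : G, ((χ : G → ℂ) g).im = 0},
      ∃ θ : RelGlauberman.Inv (P : Subgroup G) K, (∀ k, ((θ.1 : K → ℂ) k).im = 0) ∧
        Cfsg.classInner (fun n : K => (χ.1 : G → ℂ) n) (θ.1 : K → ℂ) ≠ 0 := by
    intro χ
    obtain ⟨θ, hθr, hθ⟩ := exists_real_constituent K hodd χ.1 χ.2
    obtain ⟨g, hg⟩ := exists_conj_fixed K χ.1.2 (hreal χ.1 χ.2) θ.2 hθ P.2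
    let θ' : Cfsg.IrrCharacter K := ⟨conjBy K (θ : K → ℂ) g, Clifford.isIrr_conjBy K θ.2 g⟩
    refine ⟨⟨θ', (hpinv θ').2 hg⟩, fun k => hθr _, ?_⟩
    show Cfsg.classInner _ (conjBy K (θ : K → ℂ) g) ≠ 0
    rw [Clifford.classInner_restrict_conjBy K (isClassFunction_of_isIrr χ.1.2)]
    exact hθ
  choose sel hselr hsel using hsel
  have hup : ∀ χ : {χ : Cfsg.IrrCharacter G // ∀ g : G, ((χ : G → ℂ) g).im = 0},
      ∃ ψ : Cfsg.IrrCharacter N, (∀ n, ((ψ : N → ℂ) n).im = 0) ∧
        Cfsg.classInner (fun x : K.subgroupOf N => (ψ : N → ℂ) x)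
          (tC (f (sel χ)).1 : K.subgroupOf N → ℂ) ≠ 0 := fun χ =>
    exists_real_over_real (K.subgroupOf N) hodd' (tC (f (sel χ)).1).2
      (fun x => (hrealf (sel χ)).1 (hselr χ) (e x))
  choose up hupr hup using hup
  -- degrees
  have hdeg : ∀ χ, (¬ p ∣ Cfsg.charDegree (up χ : N → ℂ)) ∧
      ((Cfsg.charDegree (up χ : N → ℂ) : ZMod p) = (Cfsg.charDegree (χ.1 : G → ℂ) : ZMod p) ∨
        (Cfsg.charDegree (up χ : N → ℂ) : ZMod p) = -(Cfsg.charDegree (χ.1 : G → ℂ) : ZMod p)) := by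
    intro χ
    set θ := sel χ with hθdef
    obtain ⟨dθ, hdθ⟩ := exists_degree (isCharacter_of_isIrr θ.1.2)
    choose d hd using fun η : Cfsg.IrrCharacter C => exists_degree (isCharacter_of_isIrr η.2)
    have hχ1 := real_over_degree K hodd θ.1.2 (hselr χ) χ.1 χ.2 (hsel χ)
    have hψ1 := real_over_degree (K.subgroupOf N) hodd' (tC (f θ).1).2
      (fun x => (hrealf θ).1 (hselr χ) (e x)) (up χ) (hupr χ) (hup χ)
    set T := BlocksCharsC.conjStab K (θ.1 : K → ℂ) with hT
    have hT' : BlocksCharsC.conjStab (K.subgroupOf N) (tC (f θ).1 : K.subgroupOf N → ℂ) =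
        T.subgroupOf N := by
      ext y
      rw [BlocksCharsC.mem_conjStab, Subgroup.mem_subgroupOf, hT, BlocksCharsC.mem_conjStab]
      have h1 := htC y⁻¹ (f θ).1
      rw [inv_inv] at h1
      have h2 := haK y⁻¹ θ.1
      rw [Subgroup.coe_inv, inv_inv] at h2
      rw [← h1, ← h2]
      constructor
      · intro h
        have h3 : (f ⟨aK.smul y⁻¹ θ.1, hinvK _ θ.1 θ.2⟩).1 = (f θ).1 :=
          (hequiv y⁻¹ θ).trans (tC.injective (Subtype.ext h))
        exact congrArg (fun η : RelGlauberman.Inv (P : Subgroup G) K => (η.1 : K → ℂ))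
          (f.injective (Subtype.ext h3))
      · intro h
        rw [← hequiv y⁻¹ θ,
          show (⟨aK.smul y⁻¹ θ.1, hinvK _ θ.1 θ.2⟩ : RelGlauberman.Inv (P : Subgroup G) K) = θ from
            Subtype.ext (Subtype.ext h)]
    rw [hT'] at hψ1
    have hξ1 : (tC (f θ).1 : K.subgroupOf N → ℂ) 1 = (d (f θ).1 : ℂ) := by
      rw [← hd]
      exact congrArg ((f θ).1 : C → ℂ) (map_one e)
    rw [hξ1, ← Nat.cast_mul] at hψ1
    rw [hdθ, ← Nat.cast_mul] at hχ1
    rw [charDegree_eq hψ1, charDegree_eq hχ1]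
    have hcong := RelGlauberman.degree_congr P.2 (hnK _) hnCP hfixmod.le θ (f θ)
      (fun η hη => (hf θ η).2 hη) dθ d hdθ hd
    have hPT : (P : Subgroup G) ≤ T := fun x hx => (hpinv θ.1).1 θ.2 x hx
    have hidx : (T.index : ZMod p) = ((T.subgroupOf N).index : ZMod p) :=
      (ZMod.natCast_eq_natCast_iff _ _ p).2 (index_modEq P hPT)
    have hpm : ((T.index * dθ : ℕ) : ZMod p) = (((T.subgroupOf N).index * d (f θ).1 : ℕ) : ZMod p) ∨
        ((T.index * dθ : ℕ) : ZMod p) = -(((T.subgroupOf N).index * d (f θ).1 : ℕ) : ZMod p) := by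
      push_cast
      rw [hcong, hidx]
      rcases (hf θ (f θ)).1 rfl with h | h <;> rw [h]
      · left; ring
      · right; ring
    refine ⟨fun hdvd => hreal χ.1 χ.2 ?_, ?_⟩
    · rw [charDegree_eq hχ1, ← ZMod.natCast_eq_zero_iff]
      rcases hpm with h | h <;> rw [h, (ZMod.natCast_eq_zero_iff _ p).2 hdvd]
      exact neg_zero
    · rcases hpm with h | h
      · exact Or.inl h.symm
      · exact Or.inr (by rw [h, neg_neg])
  refine ⟨fun χ => ⟨up χ, hupr χ, (hdeg χ).1⟩, ⟨?_, ?_⟩, fun χ => (hdeg χ).2⟩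
  · -- injective
    intro χ₁ χ₂ h
    have h' : up χ₁ = up χ₂ := congrArg Subtype.val h
    obtain ⟨y, hy⟩ := Clifford.exists_conjBy_of_constituents (K.subgroupOf N) (up χ₁).2
      (tC (f (sel χ₁)).1).2 (tC (f (sel χ₂)).1).2 (hup χ₁) (by rw [h']; exact hup χ₂)
    have h1 := htC y⁻¹ (f (sel χ₁)).1
    rw [inv_inv, ← hy] at h1
    have h2 : (f ⟨aK.smul y⁻¹ (sel χ₁).1, hinvK _ _ (sel χ₁).2⟩).1 = (f (sel χ₂)).1 :=
      (hequiv y⁻¹ (sel χ₁)).trans (tC.injective (Subtype.ext h1))
    have h3 : ((sel χ₂).1 : K → ℂ) = conjBy K ((sel χ₁).1 : K → ℂ) (y : G) := by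
      have h4 := haK y⁻¹ (sel χ₁).1
      rw [Subgroup.coe_inv, inv_inv] at h4
      rw [← h4]
      exact (congrArg (fun η : RelGlauberman.Inv (P : Subgroup G) K => (η.1 : K → ℂ))
        (f.injective (Subtype.ext h2))).symm
    refine Subtype.ext (real_over_unique K hodd (sel χ₁).1.2 χ₁.1 χ₂.1 χ₁.2 χ₂.2 (hsel χ₁) ?_)
    rw [← Clifford.classInner_restrict_conjBy K (isClassFunction_of_isIrr χ₂.1.2) _ (y : G), ← h3]
    exact hsel χ₂
  · -- surjective
    rintro ⟨ψ, hψr, hψp⟩
    obtain ⟨ξ', hξ'r, hξ'⟩ := exists_real_constituent (K.subgroupOf N) hodd' ψ hψr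
    let ξ : Cfsg.IrrCharacter C := tC.symm ξ'
    have hξ : RelGlauberman.PInv (P : Subgroup G) C (ξ : C → ℂ) := by
      have hP' : IsPGroup p ((P : Subgroup G).subgroupOf N) :=
        P.2.comap_of_injective N.subtype Subtype.coe_injective
      obtain ⟨g, hg⟩ := exists_conj_fixed (K.subgroupOf N) ψ.2 hψp ξ'.2 hξ' hP'
      intro x hx k k' hk
      have hmem : (g⁻¹ : N) * ⟨x, hPN hx⟩ * g ∈ (P : Subgroup G).subgroupOf N := by
        rw [Subgroup.mem_subgroupOf]
        simpa using hNP (g : G)⁻¹ (N.inv_mem g.2) x hx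
      have h1 := congrArg (fun F => conjBy (K.subgroupOf N) F g⁻¹) (hg _ hmem)
      simp only [conjBy_mul] at h1
      rw [show g * (g⁻¹ * ⟨x, hPN hx⟩ * g) * g⁻¹ = (⟨x, hPN hx⟩ : N) by group, mul_inv_cancel,
        conjBy_one] at h1
      have h2 := congrFun h1 (e.symm k)
      show (ξ' : K.subgroupOf N → ℂ) (e.symm k') = (ξ' : K.subgroupOf N → ℂ) (e.symm k)
      rw [← h2]
      exact congrArg (ξ' : K.subgroupOf N → ℂ) (Subtype.ext (Subtype.ext hk))
    set θ := f.symm ⟨ξ, hξ⟩ with hθ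
    have hfθ : (f θ).1 = ξ := by rw [hθ, Equiv.apply_symm_apply]
    have hθr : ∀ k, ((θ.1 : K → ℂ) k).im = 0 := (hrealf θ).2 fun c => by
      rw [hfθ]; exact hξ'r (e.symm c)
    obtain ⟨χ, hχr, hχ⟩ := exists_real_over_real K hodd θ.1.2 hθr
    refine ⟨⟨χ, hχr⟩, Subtype.ext ?_⟩
    show up ⟨χ, hχr⟩ = ψ
    set θ₁ := sel ⟨χ, hχr⟩ with hθ₁
    obtain ⟨g, hg⟩ := Clifford.exists_conjBy_of_constituents K χ.2 θ.1.2 θ₁.1.2 hχ
      (hsel ⟨χ, hχr⟩)
    obtain ⟨n, hn, hng⟩ := BlocksCharsC.exists_normalizer_conjBy K P ((hpinv θ.1).1 θ.2)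
      (g := g) (fun x hx => by rw [← hg]; exact (hpinv θ₁.1).1 θ₁.2 x hx)
    have h3 : (f θ₁).1 = aC.smul (⟨n, hn⟩ : N)⁻¹ ξ := by
      rw [← hfθ, ← hequiv]
      congr 2
      refine Subtype.ext (Subtype.ext ?_)
      show (θ₁.1 : K → ℂ) = ((aK.smul (⟨n, hn⟩ : N)⁻¹ θ.1 : Cfsg.IrrCharacter K) : K → ℂ)
      rw [haK, Subgroup.coe_inv, inv_inv, hng, hg]
    refine real_over_unique (K.subgroupOf N) hodd' (tC (f θ₁).1).2 _ _ (hupr _) hψr
      (hup ⟨χ, hχr⟩) ?_
    rw [h3, htC, inv_inv,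
      Clifford.classInner_restrict_conjBy (K.subgroupOf N) (isClassFunction_of_isIrr ψ.2),
      show tC ξ = ξ' from tC.apply_symm_apply ξ']
    exact hξ'

/-- Every real element is conjugate into the normalizer, for `K` of order prime to `p`. -/
theorem exists_conj_normalizer (hreal : RealPrime p G) (hodd : Odd K.index)
    (hKp : ¬ p ∣ Nat.card K) {x : K} (hx : IsConj x x⁻¹) :
    ∃ g : G, g * x * g⁻¹ ∈ Subgroup.normalizer ((P : Subgroup G) : Set G) := by
  classical
  set N := Subgroup.normalizer ((P : Subgroup G) : Set G) with hN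
  have hbot : (P : Subgroup G) ⊓ K = ⊥ := by
    rw [eq_bot_iff]
    intro y hy
    obtain ⟨k, hk⟩ := IsPGroup.iff_orderOf.1 P.2 ⟨y, hy.1⟩
    rw [Subgroup.orderOf_mk] at hk
    rw [Subgroup.mem_bot, ← orderOf_eq_one_iff]
    refine Nat.eq_one_of_dvd_coprimes (Nat.Coprime.pow_left k
      ((Nat.Prime.coprime_iff_not_dvd hp.1).2 hKp)) (by rw [hk]) ?_
    rw [← Subgroup.orderOf_mk (H := K) y hy.2]
    exact orderOf_dvd_natCard _
  obtain ⟨F, hF, -⟩ := exists_correspondence K P hreal hodd (by rw [hbot]; infer_instance)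
  haveI : (K.subgroupOf N).Normal := Subgroup.normal_subgroupOf
  have hodd' : Odd (K.subgroupOf N).index :=
    hodd.of_dvd_nat (Subgroup.relIndex_dvd_index_of_normal K N)
  -- real characters and their orbits
  have horb : ∀ (A : Type u) [Group A] [Finite A] (M : Subgroup A) [M.Normal], Odd M.index →
      Nat.card {χ : Cfsg.IrrCharacter A // ∀ a : A, ((χ : A → ℂ) a).im = 0} =
        Nat.card (Quot (RealChars.irrRel M)) := by
    intro A _ _ M _ hM
    letI : Fintype M := Fintype.ofFinite M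
    letI : Fintype A := Fintype.ofFinite A
    choose c hcr hc using fun χ : {χ : Cfsg.IrrCharacter A // ∀ a : A, ((χ : A → ℂ) a).im = 0} =>
      exists_real_constituent M hM χ.1 χ.2
    have hrel : ∀ (θ η : RealChars.RealIrr M) (g : A),
        (η.1 : M → ℂ) = conjBy M (θ.1 : M → ℂ) g → RealChars.irrRel M θ η := by
      intro θ η g h
      refine ⟨g⁻¹, fun k k' hk => ?_⟩
      rw [h]
      exact congrArg (θ.1 : M → ℂ) (Subtype.ext (by simp [hk, mul_assoc]))
    refine Nat.card_congr (Equiv.ofBijective (fun χ => Quot.mk _ ⟨c χ, hcr χ⟩) ⟨?_, ?_⟩)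
    · intro χ₁ χ₂ h
      simp only at h
      have h' := congrArg (RealChars.quotIrrEquiv M) h
      obtain ⟨g, hg⟩ := MulAction.mem_orbit_iff.1
        (MulAction.orbitRel_apply.1 (Quotient.exact' h'))
      refine Subtype.ext (real_over_unique M hM (c χ₂).2 χ₁.1 χ₂.1 χ₁.2 χ₂.2 ?_ (hc χ₂))
      have hg' : ((c χ₁ : Cfsg.IrrCharacter M) : M → ℂ) = conjBy M (c χ₂ : M → ℂ) g⁻¹ := by
        rw [← show (g • (⟨c χ₂, hcr χ₂⟩ : RealChars.RealIrr M)).1 = c χ₁ from
          congrArg Subtype.val hg]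
        funext k
        rw [RealChars.smul_realIrr_apply]
        exact congrArg (c χ₂ : M → ℂ) (Subtype.ext (by simp [MulAut.conjNormal_apply]))
      have h1 := hc χ₁
      rwa [hg', Clifford.classInner_restrict_conjBy M (isClassFunction_of_isIrr χ₁.1.2)] at h1
    · intro q
      induction q using Quot.ind with
      | mk θ =>
        obtain ⟨χ, hχr, hχ⟩ := exists_real_over_real M hM θ.1.2 θ.2
        obtain ⟨g, hg⟩ := Clifford.exists_conjBy_of_constituents M χ.2 θ.1.2 (c ⟨χ, hχr⟩).2 hχ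
          (hc ⟨χ, hχr⟩)
        exact ⟨⟨χ, hχr⟩, (Quot.sound (hrel θ ⟨c ⟨χ, hχr⟩, hcr _⟩ g hg)).symm⟩
  have hcard : Nat.card (Quot (RealChars.eltRel K)) ≤
      Nat.card (Quot (RealChars.eltRel (K.subgroupOf N))) := by
    rw [← RealChars.card_quot_real K hodd, ← RealChars.card_quot_real _ hodd', ← horb G K hodd,
      ← horb N (K.subgroupOf N) hodd']
    exact Nat.card_le_card_of_injective (fun χ => (⟨(F χ).1, (F χ).2.1⟩ :
      {χ : Cfsg.IrrCharacter N // ∀ a : N, ((χ : N → ℂ) a).im = 0}))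
      fun a b h => hF.1 (Subtype.ext (congrArg Subtype.val h :))
  -- the map on real elements
  let ι : K.subgroupOf N →* K :=
    { toFun := fun c => ⟨((c : N) : G), c.2⟩, map_one' := rfl, map_mul' := fun _ _ => rfl }
  let J : {c : K.subgroupOf N // IsConj c c⁻¹} → {y : K // IsConj y y⁻¹} := fun c =>
    ⟨ι c.1, by rw [← map_inv]; exact ι.map_isConj c.2⟩
  have hJ : ∀ a b, RealChars.eltRel (K.subgroupOf N) a b → RealChars.eltRel K (J a) (J b) := by
    rintro a b ⟨n, hn⟩
    exact ⟨(n : G), congrArg Subtype.val hn⟩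
  have hcent : ∀ c : K.subgroupOf N, ((c : N) : G) ∈ Subgroup.centralizer ((P : Subgroup G) : Set G) := by
    intro c
    rw [Subgroup.mem_centralizer_iff]
    intro y hy
    have h1 : y * ((c : N) : G) * y⁻¹ * ((c : N) : G)⁻¹ ∈ (P : Subgroup G) ⊓ K := by
      refine ⟨?_, K.mul_mem (hK.conj_mem _ c.2 y) (K.inv_mem c.2)⟩
      rw [show y * ((c : N) : G) * y⁻¹ * ((c : N) : G)⁻¹ =
        y * (((c : N) : G) * y⁻¹ * ((c : N) : G)⁻¹) by group]
      exact mul_mem hy ((Subgroup.mem_normalizer_iff.1 (c : N).2 _).1 (inv_mem hy))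
    rw [hbot, Subgroup.mem_bot, mul_inv_eq_one, mul_inv_eq_iff_eq_mul] at h1
    exact h1
  have hinj : Function.Injective (Quot.map J hJ) := by
    rintro ⟨a⟩ ⟨b⟩ h
    have h' : (Quot.mk _ (J a) : Quot (RealChars.eltRel K)) = Quot.mk _ (J b) := h
    have hg : ∀ a' b', Relation.EqvGen (RealChars.eltRel K) a' b' →
        ∃ g : G, (b'.1 : G) = g * a'.1 * g⁻¹ := by
      intro a' b' hh
      induction hh with
      | rel u v huv => exact huv
      | refl u => exact ⟨1, by simp⟩
      | symm u v _ ih =>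
        obtain ⟨g, hg⟩ := ih
        exact ⟨g⁻¹, by rw [hg]; group⟩
      | trans u v w _ _ ih1 ih2 =>
        obtain ⟨g, hg⟩ := ih1
        obtain ⟨g', hg'⟩ := ih2
        exact ⟨g' * g, by rw [hg', hg]; group⟩
    obtain ⟨g, hg⟩ := hg _ _ (Quot.eqvGen_exact h')
    have hg' : ((b.1 : N) : G) = g * ((a.1 : N) : G) * g⁻¹ := hg
    obtain ⟨n, hn, hn'⟩ := P.conj_eq_normalizer_conj_of_mem_centralizer ((a.1 : N) : G) g⁻¹
      (hcent a.1) (by rw [inv_inv, ← hg']; exact hcent b.1)
    rw [inv_inv, ← hg'] at hn'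
    exact Quot.sound ⟨(⟨n, hn⟩ : N)⁻¹, Subtype.ext (by simpa using hn')⟩
  have hsurj : Function.Surjective (Quot.map J hJ) :=
    (hinj.bijective_of_nat_card_le hcard).2
  obtain ⟨q, hq⟩ := hsurj (Quot.mk _ ⟨x, hx⟩)
  induction q using Quot.ind with
  | mk c =>
    have hg : ∀ a' b', Relation.EqvGen (RealChars.eltRel K) a' b' →
        ∃ g : G, (b'.1 : G) = g * a'.1 * g⁻¹ := by
      intro a' b' hh
      induction hh with
      | rel u v huv => exact huv
      | refl u => exact ⟨1, by simp⟩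
      | symm u v _ ih =>
        obtain ⟨g, hg⟩ := ih
        exact ⟨g⁻¹, by rw [hg]; group⟩
      | trans u v w _ _ ih1 ih2 =>
        obtain ⟨g, hg⟩ := ih1
        obtain ⟨g', hg'⟩ := ih2
        exact ⟨g' * g, by rw [hg', hg]; group⟩
    obtain ⟨g, hg⟩ := hg _ _ (Quot.eqvGen_exact hq)
    refine ⟨g⁻¹, ?_⟩
    have hg' : (x : G) = g * ((c.1 : N) : G) * g⁻¹ := hg
    rw [hg', show g⁻¹ * (g * ((c.1 : N) : G) * g⁻¹) * g⁻¹⁻¹ = ((c.1 : N) : G) by group]
    exact (c.1 : N).2

end Main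

end CfsgLib.RealPDegree
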